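/-
The field with four elements and the small unitary groups over it.
-/
import Cfsg.Agent.Lib.Chev.CT.Phan.Three.Base
import Cfsg.Agent.Lib.Chev.CT.Phan.Blocks

set_option autoImplicit false

namespace CfsgLib.Chev.CT.Phan

open Matrix Cfsg

universe u

variable {F : Type u} [Field F] (U : UF F 2)

namespace UF

include U

theorem two_eq_zero [Fintype F] (hF : Fintype.card F = 4) : (2 : F) = 0 := by
  have := Nat.cast_card_eq_zero F
  rw [hF, show ((4 : ℕ) : F) = (2 : F) ^ 2 by norm_num] at this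
  exact (pow_eq_zero_iff (by norm_num)).1 this

theorem nm_eq_cube (x : F) : U.nm x = x ^ 3 := by rw [nm, U.hσ]; ring

theorem exists_omega : ∃ ω : F, ω ^ 2 + ω + 1 = 0 := by
  obtain ⟨l, hl, hl2⟩ := U.exists_rot
  refine ⟨l, ?_⟩
  rw [U.hσ] at hl
  have h1 : l ≠ 1 := fun e => hl2 (by rw [e, one_mul])
  exact (mul_eq_zero.1 (show (l - 1) * (l ^ 2 + l + 1) = 0 by linear_combination hl)).resolve_left (sub_ne_zero.2 h1)

theorem nm_one_cases {ω c : F} (hω : ω ^ 2 + ω + 1 = 0) (h : U.nm c = 1) :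
    c = 1 ∨ c = ω ∨ c = ω ^ 2 := by
  rw [U.nm_eq_cube] at h
  rcases mul_eq_zero.1 (show (c - 1) * ((c - ω) * (c - ω ^ 2)) = 0 by
    linear_combination h + (-(c ^ 2) + c * ω - ω + 1) * hω) with e | e
  · exact Or.inl (sub_eq_zero.1 e)
  · rcases mul_eq_zero.1 e with e | e
    · exact Or.inr (Or.inl (sub_eq_zero.1 e))
    · exact Or.inr (Or.inr (sub_eq_zero.1 e))

theorem nm_zero_one (a : F) : U.nm a = 0 ∨ U.nm a = 1 := by
  have h := U.nm_fix a
  rw [U.hσ] at h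
  rcases mul_eq_zero.1 (show U.nm a * (U.nm a - 1) = 0 by linear_combination h) with e | e
  · exact Or.inl e
  · exact Or.inr (sub_eq_zero.1 e)

theorem nm_ne_zero {a : F} (h : a ≠ 0) : U.nm a = 1 :=
  (U.nm_zero_one a).resolve_left fun e => h (U.nm_eq_zero.1 e)

/-- The shape of an element of `SU 2`. -/
theorem su2_cases [Fintype F] (hF : Fintype.card F = 4) (a b : F) (h : U.nm a + U.nm b = 1) :
    (b = 0 ∧ U.nm a = 1) ∨ (a = 0 ∧ U.nm b = 1) := by
  by_cases hb : b = 0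
  · refine Or.inl ⟨hb, ?_⟩
    rwa [hb, U.nm_zero, add_zero] at h
  · refine Or.inr ⟨?_, U.nm_ne_zero hb⟩
    by_contra ha
    rw [U.nm_ne_zero ha, U.nm_ne_zero hb] at h
    exact one_ne_zero (α := F) (by linear_combination h * (-1) + two_eq_zero U hF)

end UF

variable [Fintype F] (hF : Fintype.card F = 4)

namespace UF

include U hF

theorem neg_eq (x : F) : -x = x := by linear_combination (-x) * two_eq_zero U hF

/-- An automorphism preserving the diagonal torus is diagonal times a field automorphism. -/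
theorem aut_torus_two (β : SU 2 F 2 ≃* SU 2 F 2)
    (hT : ∀ A : SU 2 F 2, A.1.1 1 0 = 0 → (β A).1.1 1 0 = 0) :
    ∃ (τ : F ≃+* F) (ν : F), U.nm ν = 1 ∧ ∀ A : SU 2 F 2,
      (β A).1.1 0 0 = τ (A.1.1 0 0) ∧ (β A).1.1 1 0 = ν * τ (A.1.1 1 0) := by
  obtain ⟨ω, hω⟩ := U.exists_omega
  have hω1 : U.nm ω = 1 := U.nm_ne_zero fun e => by simp [e] at hω
  have hωne : ω ≠ 1 := fun e => one_ne_zero (α := F) (by
    rw [e] at hω; linear_combination hω - U.two_eq_zero hF)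
  have hx : U.nm ω + U.nm 0 = 1 := by rw [hω1, U.nm_zero, add_zero]
  have hy : U.nm (0 : F) + U.nm 1 = 1 := by rw [U.nm_zero, U.nm_one, zero_add]
  have n10 : U.nm (1 : F) + U.nm 0 = 1 := by rw [U.nm_one, U.nm_zero, add_zero]
  obtain ⟨j, j', hj, ej⟩ := U.su2_surj (β (U.su2 ω 0 hx))
  have hj' : j' = 0 := by
    have := hT (U.su2 ω 0 hx) (by simp [su2_coe])
    rw [ej] at this; simpa [su2_coe] using this
  subst hj'
  have hjn : U.nm j = 1 := by rwa [U.nm_zero, add_zero] at hj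
  obtain ⟨τ, hτω⟩ : ∃ τ : F ≃+* F, τ ω = j := by
    rcases U.nm_one_cases hω hjn with e | e | e
    · exfalso
      rw [U.su2_eq (h' := n10) e rfl, U.su2_one n10, ← map_one β] at ej
      exact hωne (U.su2_inj ((β.injective ej).trans (U.su2_one n10).symm)).1
    · exact ⟨RingEquiv.refl F, by simp [e]⟩
    · refine ⟨RingEquiv.ofBijective U.σ ⟨U.σ.injective, fun x => ⟨U.σ x, U.hσσ x⟩⟩, ?_⟩
      show U.σ ω = j
      rw [U.hσ, e]
  obtain ⟨y0, ν, hy', ey⟩ := U.su2_surj (β (U.su2 0 1 hy))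
  have hτn : ∀ x, U.nm (τ x) = τ (U.nm x) := fun x => by simp only [nm, U.hσ, ← map_pow, ← map_mul]
  have hdiag : ∀ (c : F) (hc : U.nm c + U.nm 0 = 1), ∃ hc', β (U.su2 c 0 hc) = U.su2 (τ c) 0 hc' := by
    intro c hc
    have hc1 : U.nm c = 1 := by rwa [U.nm_zero, add_zero] at hc
    have hc' : U.nm (τ c) + U.nm 0 = 1 := by rw [hτn, hc1, map_one, U.nm_zero, add_zero]
    refine ⟨hc', ?_⟩
    have hω2 : U.nm (ω * ω) + U.nm 0 = 1 := by rw [U.nm_mul, hω1, one_mul, U.nm_zero, add_zero]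
    rcases U.nm_one_cases hω hc1 with rfl | rfl | rfl
    · rw [U.su2_one, map_one, ← U.su2_one n10]; exact U.su2_eq (map_one τ).symm rfl
    · rw [ej]; exact U.su2_eq hτω.symm rfl
    · have e : U.su2 (ω ^ 2) 0 hc = U.su2 ω 0 hx * U.su2 ω 0 hx := by
        rw [U.su2_mul hx hx (U.su2_mul_prop hx hx)]; exact U.su2_eq (by simp; ring) (by simp)
      rw [e, map_mul, ej, U.su2_mul hj hj (U.su2_mul_prop hj hj)]
      exact U.su2_eq (by simp [map_pow, hτω]; ring) (by simp)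
  have hy0 : y0 = 0 ∧ U.nm ν = 1 := by
    rcases U.su2_cases hF y0 ν hy' with ⟨e, e'⟩ | h
    · exfalso
      subst e
      have hc : U.nm (τ.symm y0) + U.nm 0 = 1 := by
        have : τ (U.nm (τ.symm y0)) = τ 1 := by rw [← hτn, RingEquiv.apply_symm_apply, e', map_one]
        rw [τ.injective this, U.nm_zero, add_zero]
      obtain ⟨hc', e⟩ := hdiag _ hc
      have := β.injective (ey.trans ((U.su2_eq (by simp) rfl).trans e.symm))
      exact one_ne_zero (U.su2_inj this).2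
    · exact h
  obtain ⟨hy0, hν⟩ := hy0
  subst hy0
  refine ⟨τ, ν, hν, fun A => ?_⟩
  obtain ⟨a, b, h, rfl⟩ := U.su2_surj A
  rcases U.su2_cases hF a b h with ⟨rfl, ha⟩ | ⟨rfl, hb⟩
  · obtain ⟨hc', e⟩ := hdiag a (by rw [ha, U.nm_zero, add_zero])
    rw [U.su2_eq (h' := by rw [ha, U.nm_zero, add_zero]) rfl rfl, e]
    simp [su2_coe]
  · have hc : U.nm (U.σ b) + U.nm 0 = 1 := by rw [U.nm_sigma, hb, U.nm_zero, add_zero]
    obtain ⟨hc', e⟩ := hdiag (U.σ b) hc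
    have eb : U.su2 0 b h = U.su2 (U.σ b) 0 hc * U.su2 0 1 hy := by
      rw [U.su2_mul hc hy (U.su2_mul_prop hc hy)]; exact U.su2_eq (by simp) (by simp [U.hσσ])
    rw [eb, map_mul, e, ey, U.su2_mul hc' hy' (U.su2_mul_prop hc' hy'), U.su2_mul hc hy (U.su2_mul_prop hc hy)]
    simp [su2_coe, U.hσσ]
    rw [U.hσ, U.hσ, map_pow, ← pow_mul]
    have hb4 : τ b ^ (2 * 2) = τ b := by
      have := U.hσσ (τ b); rw [U.hσ, U.hσ, ← pow_mul] at this; exact this
    rw [hb4, mul_comm]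

/-- The discrete Fourier element of `SU 3`. -/
theorem exists_four (ω : F) (hω : ω ^ 2 + ω + 1 = 0) :
    ∃ g : SU 3 F 2, g.1.1 = !![1, 1, 1; 1, ω, ω ^ 2; 1, ω ^ 2, ω] := by
  have h2 := U.two_eq_zero hF
  refine ⟨⟨⟨!![1, 1, 1; 1, ω, ω ^ 2; 1, ω ^ 2, ω], ?_⟩, fun u v => ?_⟩, rfl⟩
  · rw [Matrix.det_fin_three]
    simp
    linear_combination (-ω ^ 2 + ω + 3) * hω + (-2 - 3 * ω) * h2
  · show hf 2 (!![1, 1, 1; 1, ω, ω ^ 2; 1, ω ^ 2, ω] *ᵥ u) (!![1, 1, 1; 1, ω, ω ^ 2; 1, ω ^ 2, ω] *ᵥ v) = hf 2 u v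
    rw [U.hf_eq, U.hf_eq]
    simp [Fin.sum_univ_three, mulVec, dotProduct, map_add, map_mul, map_pow, U.hσ ω]
    linear_combination (u 0 * U.σ (v 0) + u 1 * U.σ (v 1) + u 2 * U.σ (v 2)) * h2 +
      (u 0 * U.σ (v 1) * (1 - ω + ω ^ 2) + u 0 * U.σ (v 2) * (1 - ω + ω ^ 2) + u 1 * U.σ (v 0) +
        u 2 * U.σ (v 0) + (u 1 * U.σ (v 2) + u 2 * U.σ (v 1)) * (1 - ω + ω ^ 3) +
        (u 1 * U.σ (v 1) + u 2 * U.σ (v 2)) * (-2 + 2 * ω - ω ^ 3 + ω ^ 4)) * hω

/-- A square root of one is one. -/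
theorem sq_one {c : F} (h : c * c = 1) : c = 1 := by
  have h2 := U.two_eq_zero hF
  exact sub_eq_zero.1 ((pow_eq_zero_iff (n := 2) (by norm_num)).1 (by linear_combination h + (1 - c) * h2))

/-- The group `SU 2` is generated by a diagonal and an antidiagonal element. -/
theorem su2_gen {ω : F} (hω : ω ^ 2 + ω + 1 = 0) (P : Subgroup (SU 2 F 2))
    (hx : ∀ h, U.su2 ω 0 h ∈ P) (hy : ∀ h, U.su2 0 1 h ∈ P) : P = ⊤ := by
  have hω1 : U.nm ω + U.nm 0 = 1 := by
    rw [U.nm_ne_zero fun e => by simp [e] at hω, U.nm_zero, add_zero]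
  have hy1 : U.nm (0 : F) + U.nm 1 = 1 := by rw [U.nm_zero, U.nm_one, zero_add]
  have hd : ∀ c h, U.su2 c 0 h ∈ P := by
    intro c h
    have hc : U.nm c = 1 := by rwa [U.nm_zero, add_zero] at h
    rcases U.nm_one_cases hω hc with rfl | rfl | rfl
    · rw [U.su2_one]; exact one_mem P
    · exact hx h
    · have := mul_mem (hx hω1) (hx hω1)
      rw [U.su2_mul hω1 hω1 (U.su2_mul_prop hω1 hω1)] at this
      rwa [U.su2_eq (h' := h) (show ω * ω - U.σ 0 * 0 = ω ^ 2 by ring) (by ring)] at this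
  refine eq_top_iff.2 fun A _ => ?_
  obtain ⟨a, b, h, rfl⟩ := U.su2_surj A
  rcases U.su2_cases hF a b h with ⟨rfl, -⟩ | ⟨rfl, hb⟩
  · exact hd a h
  · have hc : U.nm (U.σ b) + U.nm 0 = 1 := by rw [U.nm_sigma, hb, U.nm_zero, add_zero]
    have e : U.su2 0 b h = U.su2 (U.σ b) 0 hc * U.su2 0 1 hy1 := by
      rw [U.su2_mul hc hy1 (U.su2_mul_prop hc hy1)]; exact U.su2_eq (by simp) (by simp [U.hσσ])
    rw [e]; exact mul_mem (hd _ hc) (hy hy1)

omit hF

/-- A twisted Fourier element. -/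
def Four (g : SU 3 F 2) : Prop :=
  ∃ (ω : F) (d : Fin 3 → F) (hd : ∀ i, U.nm (d i) = 1) (g0 : SU 3 F 2), ω ^ 2 + ω + 1 = 0 ∧
    g0.1.1 = !![1, 1, 1; 1, ω, ω ^ 2; 1, ω ^ 2, ω] ∧ g = twist U (RingEquiv.refl F) d hd g0

include hF

theorem four_exists {t : F} (ht : U.nm t = 1) :
    ∃ g, U.Four g ∧ act g (ev F 3 0) = ev F 3 0 + ev F 3 1 + t • ev F 3 2 := by
  obtain ⟨ω, hω⟩ := U.exists_omega
  obtain ⟨g0, hg0⟩ := U.exists_four hF ω hω
  have hd : ∀ i, U.nm ((![1, 1, t] : Fin 3 → F) i) = 1 := fun i => by fin_cases i <;> simp [ht, U.nm_one]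
  refine ⟨twist U (RingEquiv.refl F) _ hd g0, ⟨ω, _, hd, g0, hω, hg0, rfl⟩, ?_⟩
  rw [show ev F 3 0 = Pi.single (0 : Fin 3) (1 : F) from ev_fin (F := F) (0 : Fin 3)]
  funext r
  simp only [act, Matrix.mulVec_single_one, Matrix.col_apply, twist_coe, hg0]
  fin_cases r <;> simp [ev]

theorem four_sq {g : SU 3 F 2} (h : U.Four g) : act (g * g) (ev F 3 0) = ev F 3 0 := by
  obtain ⟨ω, d, hd, g0, hω, hg0, rfl⟩ := h
  have h2 := U.two_eq_zero hF
  have e0 : act (g0 * g0) (ev F 3 0) = ev F 3 0 := by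
    rw [act_mul, show ev F 3 0 = Pi.single (0 : Fin 3) (1 : F) from ev_fin (F := F) (0 : Fin 3)]
    funext r
    simp only [act, Matrix.mulVec_single_one, hg0]
    fin_cases r <;> simp [mulVec, dotProduct, Fin.sum_univ_three]
    · linear_combination h2
    · linear_combination hω
    · linear_combination hω
  have hm : g0 * g0 ∈ FB F 2 3 1 3 := by rw [FB13_eq]; exact e0
  rw [← map_mul]
  exact twist_mem U (RingEquiv.refl F) d hd hm 0 (by norm_num) (by omega)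

/-- Any unit vector in three places is reached from the first basis vector. -/
theorem move3 (P : Subgroup (SU 3 F 2)) (h0 : ∀ a : SU 2 F 2, embSU 0 (by norm_num) U a ∈ P)
    (h1 : ∀ a : SU 2 F 2, embSU 1 (by norm_num) U a ∈ P) (hP : ∀ g, U.Four g → g ∈ P)
    {v : Fin 3 → F} (hv : hf 2 v v = 1) : ∃ g ∈ P, act g (ev F 3 0) = v := by
  have h2 := U.two_eq_zero hF
  have hsum : U.nm (v 0) + U.nm (v 1) + U.nm (v 2) = 1 := by
    rw [← hv, U.hf_eq, Fin.sum_univ_three]; rfl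
  have ev_e : v = v 0 • ev F 3 0 + v 1 • ev F 3 1 + v 2 • ev F 3 2 := by
    funext r; fin_cases r <;> simp [ev]
  have hy : U.nm (0 : F) + U.nm 1 = 1 := by rw [U.nm_zero, U.nm_one, zero_add]
  set a := v 0
  set b := v 1
  set c := v 2
  by_cases ha : a = 0
  · rw [ha, U.nm_zero, zero_add] at hsum
    rcases U.su2_cases hF b c hsum with ⟨hc, -⟩ | ⟨hb, -⟩
    · have hb : U.nm (0 : F) + U.nm b = 1 := by rw [U.nm_zero, zero_add, ← hsum, hc, U.nm_zero, add_zero]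
      refine ⟨_, h0 (U.su2 0 b hb), ?_⟩
      rw [U.su2_act_ev0, ev_e, ha, hc]; simp
    · have hc : U.nm (0 : F) + U.nm c = 1 := by rw [U.nm_zero, zero_add, ← hsum, hb, U.nm_zero, zero_add]
      refine ⟨_, mul_mem (h1 (U.su2 0 c hc)) (h0 (U.su2 0 1 hy)), ?_⟩
      rw [act_mul, U.su2_act_ev0, zero_smul, zero_add, one_smul, U.su2_act_ev0, ev_e, ha, hb]; simp
  have hna := U.nm_ne_zero ha
  have hA : U.nm a + U.nm 0 = 1 := by rw [hna, U.nm_zero, add_zero]
  have hbc : U.nm b + U.nm c = 0 := by linear_combination hsum - hna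
  by_cases hb : b = 0
  · have hc : c = 0 := U.nm_eq_zero.1 (by rwa [hb, U.nm_zero, zero_add] at hbc)
    refine ⟨_, h0 (U.su2 a 0 hA), ?_⟩
    rw [U.su2_act_ev0, ev_e, hb, hc]; simp
  have hc : c ≠ 0 := fun e => by
    rw [U.nm_ne_zero hb, e, U.nm_zero, add_zero] at hbc; exact one_ne_zero hbc
  have hnb := U.nm_ne_zero hb
  have hAB : U.nm (a * b) + U.nm 0 = 1 := by rw [U.nm_mul, hna, hnb, one_mul, U.nm_zero, add_zero]
  have ht : U.nm (a * b * c) = 1 := by rw [U.nm_mul, U.nm_mul, hna, hnb, U.nm_ne_zero hc, one_mul, one_mul]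
  obtain ⟨g, hg, eg⟩ := U.four_exists hF ht
  refine ⟨_, mul_mem (mul_mem (h0 (U.su2 a 0 hA)) (h1 (U.su2 (a * b) 0 hAB))) (hP g hg), ?_⟩
  have f00 : act (embSU (N := 3) 1 (by norm_num) U (U.su2 (a * b) 0 hAB)) (ev F 3 0) = ev F 3 0 :=
    embSU_mem 1 (by norm_num) U _ 0 (by norm_num) (by omega)
  have f11 : act (embSU (N := 3) 1 (by norm_num) U (U.su2 (a * b) 0 hAB)) (ev F 3 1) = (a * b) • ev F 3 1 := by
    rw [U.su2_act_ev0]; simp
  have f12 : act (embSU (N := 3) 1 (by norm_num) U (U.su2 (a * b) 0 hAB)) (ev F 3 2) = U.σ (a * b) • ev F 3 2 := by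
    rw [show ev F 3 2 = ev F 3 (1 + 1) from rfl, U.su2_act_ev1]; simp
  have g0 : act (embSU (N := 3) 0 (by norm_num) U (U.su2 a 0 hA)) (ev F 3 0) = a • ev F 3 0 := by
    rw [U.su2_act_ev0]; simp
  have g1 : act (embSU (N := 3) 0 (by norm_num) U (U.su2 a 0 hA)) (ev F 3 1) = U.σ a • ev F 3 1 := by
    rw [show ev F 3 1 = ev F 3 (0 + 1) from rfl, U.su2_act_ev1]; simp
  have g2 : act (embSU (N := 3) 0 (by norm_num) U (U.su2 a 0 hA)) (ev F 3 2) = ev F 3 2 :=
    embSU_mem 0 (by norm_num) U _ 2 (by norm_num) (by omega)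
  simp only [act_mul, eg, act_add, act_smul, f00, f11, f12, g0, g1, g2, smul_smul]
  rw [ev_e]
  simp only [nm] at hna hnb
  simp only [map_mul]
  congr 2
  · congr 1; linear_combination b * hna
  · linear_combination (c * b * U.σ b) * hna + c * hnb

/-- The blocks and the Fourier elements generate. -/
theorem gen3 (P : Subgroup (SU 3 F 2)) (h0 : ∀ a : SU 2 F 2, embSU 0 (by norm_num) U a ∈ P)
    (h1 : ∀ a : SU 2 F 2, embSU 1 (by norm_num) U a ∈ P) (hP : ∀ g, U.Four g → g ∈ P) : P = ⊤ := by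
  refine eq_top_iff.2 fun g _ => ?_
  obtain ⟨p, hp, e⟩ := U.move3 hF P h0 h1 hP (v := act g (ev F 3 0))
    (by rw [hf_act, U.ev_self (by norm_num)])
  have hfix : p⁻¹ * g ∈ FB F 2 3 1 3 := by
    rw [FB13_eq, mem_Fx, act_mul, ← e, act_inv_act]
  obtain ⟨a, ha⟩ := mem_range_embSU (N := 3) (m := 2) 1 (by norm_num) U hfix
  have := mul_mem hp (h1 a)
  rwa [ha, mul_inv_cancel_left] at this

/-- A homomorphism preserving a line and fixing it on the blocks fixes it. -/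
theorem line_fix {N : ℕ} (h : SU 3 F 2 →* SU N F 2) {v : Fin N → F} (hv : v ≠ 0)
    (hl : ∀ a, ∃ c : F, act (h a) v = c • v) (h0 : ∀ a : SU 2 F 2, act (h (embSU 0 (by norm_num) U a)) v = v)
    (h1 : ∀ a : SU 2 F 2, act (h (embSU 1 (by norm_num) U a)) v = v) : ∀ a, act (h a) v = v := by
  have hS : (Fx F 2 N v).comap h = ⊤ := by
    refine U.gen3 hF _ h0 h1 fun g hg => ?_
    obtain ⟨c, hc⟩ := hl g
    obtain ⟨a, ha⟩ := mem_range_embSU (N := 3) (m := 2) 1 (by norm_num) U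
      (show g * g ∈ FB F 2 3 1 (1 + 2) by rw [FB13_eq]; exact U.four_sq hF hg)
    have h2 := h1 a
    rw [ha, map_mul, act_mul, hc, act_smul, hc, smul_smul] at h2
    have h1' : c * c = 1 := smul_left_injective F hv (by simpa using h2)
    show act (h g) v = v
    rw [hc, U.sq_one hF h1', one_smul]
  exact fun a => (hS ▸ Subgroup.mem_top a : a ∈ (Fx F 2 N v).comap h)

/-- The last three coordinates and the first block generate `SU 4`. -/
theorem gen4 (P : Subgroup (SU 4 F 2))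
    (h0 : ∀ a : SU 2 F 2, embSU 0 (by norm_num) U a ∈ P)
    (h1 : ∀ a : SU 3 F 2, embSU 1 (by norm_num) U a ∈ P) : P = ⊤ := by
  have h2 := U.two_eq_zero hF
  have hy : U.nm (0 : F) + U.nm 1 = 1 := by rw [U.nm_zero, U.nm_one, zero_add]
  set s0 : SU 4 F 2 := embSU 0 (by norm_num) U (U.su2 0 1 hy)
  set s1 : SU 4 F 2 := embSU 1 (by norm_num) U (U.su2 0 1 hy)
  set s2 : SU 4 F 2 := embSU 2 (by norm_num) U (U.su2 0 1 hy)
  have m0 : s0 ∈ P := h0 _
  have m1 : s1 ∈ P := by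
    have := h1 (embSU 0 (by norm_num) U (U.su2 0 1 hy))
    rwa [embSU_embSU 1 (by norm_num) 0 (by norm_num) (by norm_num) U] at this
  have m2 : s2 ∈ P := by
    have := h1 (embSU 1 (by norm_num) U (U.su2 0 1 hy))
    rwa [embSU_embSU 1 (by norm_num) 1 (by norm_num) (by norm_num) U] at this
  have sw : ∀ (o : ℕ) (ho : o + 2 ≤ 4) (w : Fin 4 → F),
      act (embSU o ho U (U.su2 0 1 hy)) w ⟨o, by omega⟩ = w ⟨o + 1, by omega⟩ := by
    intro o ho w
    have := hf_act (embSU o ho U (U.su2 0 1 hy)) w (ev F 4 (o + 1))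
    rw [U.su2_act_ev1 ho, map_one, map_zero, zero_smul, add_zero, U.smul_r, map_neg, map_one, U.ev_r _ (by omega),
      U.ev_r _ (by omega), U.neg_eq hF, one_mul] at this
    exact this
  have red : ∀ w : Fin 4 → F, hf 2 w w = 1 → w 0 = 0 →
      ∃ p ∈ P, act p (ev F 4 0) = w := by
    intro w hw hw0
    let u : Fin 3 → F := fun i => w (winEquiv (N := 4) 1 (by norm_num) (Sum.inl i))
    have hu : hf 2 u u = 1 := by
      rw [← hw, U.hf_eq, U.hf_eq, Fin.sum_univ_three, Fin.sum_univ_four, hw0]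
      simp [u, winEquiv]
    obtain ⟨g, -, eg⟩ := U.move3 hF ⊤ (fun _ => trivial) (fun _ => trivial) (fun _ _ => trivial) hu
    refine ⟨embSU 1 (by norm_num) U g * s0, mul_mem (h1 g) m0, ?_⟩
    rw [act_mul, U.su2_act_ev0, zero_smul, zero_add, one_smul, act_embSU]
    funext r
    obtain ⟨s, rfl⟩ := (winEquiv (m := 3) 1 (by norm_num : 1 + 3 ≤ 4)).surjective r
    rw [Function.comp_apply, Equiv.symm_apply_apply]
    rcases s with i | ⟨k, hk⟩
    · rw [Sum.elim_inl, show (fun i : Fin 3 => ev F 4 (0 + 1) (winEquiv (N := 4) 1 (by norm_num) (Sum.inl i))) = ev F 3 0 from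
        funext fun i => by simp [ev, winEquiv], eg]
    · have : k = 0 := by
        have := k.isLt
        exact Fin.ext (by simp at hk; simp; omega)
      subst this
      simp [ev, winEquiv, hw0]
  have pre : ∀ w : Fin 4 → F, hf 2 w w = 1 → w 1 = 0 → ∃ p ∈ P, act p (ev F 4 0) = w := by
    intro w hw h
    obtain ⟨p, hp, e⟩ := red (act s0 w) (by rw [hf_act]; exact hw) ((sw 0 (by norm_num) w).trans h)
    exact ⟨s0⁻¹ * p, mul_mem (inv_mem m0) hp, by rw [act_mul, e, act_inv_act]⟩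
  have pre2 : ∀ w : Fin 4 → F, hf 2 w w = 1 → w 2 = 0 → ∃ p ∈ P, act p (ev F 4 0) = w := by
    intro w hw h
    obtain ⟨p, hp, e⟩ := pre (act s1 w) (by rw [hf_act]; exact hw) ((sw 1 (by norm_num) w).trans h)
    exact ⟨s1⁻¹ * p, mul_mem (inv_mem m1) hp, by rw [act_mul, e, act_inv_act]⟩
  have all : ∀ w : Fin 4 → F, hf 2 w w = 1 → ∃ p ∈ P, act p (ev F 4 0) = w := by
    intro w hw
    by_cases a0 : w 0 = 0
    · exact red w hw a0
    by_cases a1 : w 1 = 0
    · exact pre w hw a1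
    by_cases a2 : w 2 = 0
    · exact pre2 w hw a2
    by_cases a3 : w 3 = 0
    · obtain ⟨p, hp, e⟩ := pre2 (act s2 w) (by rw [hf_act]; exact hw) ((sw 2 (by norm_num) w).trans a3)
      exact ⟨s2⁻¹ * p, mul_mem (inv_mem m2) hp, by rw [act_mul, e, act_inv_act]⟩
    exfalso
    rw [U.hf_eq, Fin.sum_univ_four] at hw
    have h00 := U.nm_ne_zero a0
    have h11 := U.nm_ne_zero a1
    have h22 := U.nm_ne_zero a2
    have h33 := U.nm_ne_zero a3
    simp only [nm] at h00 h11 h22 h33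
    exact one_ne_zero (α := F) (by linear_combination -hw + h00 + h11 + h22 + h33 + 2 * h2)
  refine eq_top_iff.2 fun g _ => ?_
  obtain ⟨p, hp, e⟩ := all (act g (ev F 4 0)) (by rw [hf_act, U.ev_self (by norm_num)])
  have hfix : p⁻¹ * g ∈ FB F 2 4 1 (1 + 3) := by
    intro k hk hk'
    obtain rfl : k = 0 := by omega
    rw [act_mul, ← e, act_inv_act]
  obtain ⟨a, ha⟩ := mem_range_embSU (N := 4) (m := 3) 1 (by norm_num) U hfix
  have := mul_mem hp (h1 a)
  rwa [ha, mul_inv_cancel_left] at this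

end UF

end CfsgLib.Chev.CT.Phan
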