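/-
The induction over four elements: the completion from windows of length four.
-/
import Cfsg.Agent.Lib.Chev.CT.Phan.Two.Base

set_option autoImplicit false

namespace CfsgLib.Chev.CT.Phan

open Matrix Cfsg

universe u v

variable {F : Type u} [Field F] [Fintype F] {N : ℕ} {G : Type v} [Group G]

/-- The extra hypotheses over four elements: windows of length four and distant commutation. -/
structure Dat.Two {U : UF F 2} (D : Dat U N G) : Prop where
  card : Fintype.card F = 4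
  ext : ∀ l, l + 4 ≤ N → ∃ f : SU 4 F 2 →* G, (∀ A, f (embSU 0 (by norm_num) U A) = D.ψ l A) ∧
    ∀ A, f (embSU 1 (by norm_num) U A) = D.ψ (l + 1) A
  AV : ∀ i l, i + 2 ≤ l → l + 3 ≤ N → ∀ A B, D.φ i A * D.ψ l B = D.ψ l B * D.φ i A
  VA : ∀ l j, l + 3 ≤ j → j + 2 ≤ N → ∀ A B, D.ψ l A * D.φ j B = D.φ j B * D.ψ l A
  VV : ∀ l m, l + 3 ≤ m → m + 3 ≤ N → ∀ A B, D.ψ l A * D.ψ m B = D.ψ m B * D.ψ l A

namespace Dat.Two

variable {U : UF F 2} {D : Dat U N G} (H : D.Two)
include H

omit H in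
theorem emb_fix_zero {k m : ℕ} (hk : k + m ≤ N) (hm : 0 < m) {X : SU m F 2}
    (h : act (embSU k hk U X) (ev F N k) = ev F N k) : act X (ev F m 0) = ev F m 0 := by
  funext i
  have e := congrFun h (winEquiv k hk (Sum.inl i))
  rw [embSU_inl, show (fun j : Fin m => ev F N k (winEquiv k hk (Sum.inl j))) = ev F m 0 from
    funext fun j => by simp [ev, winEquiv]] at e
  rw [e]
  simp [ev, winEquiv]

/-- A window of length three moves its first vector to any unit vector. -/
theorem move_LV {l : ℕ} (h : l + 3 ≤ N) {v : Fin N → F} (hv : Win l (l + 3) v) (h1 : hf 2 v v = 1) :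
    ∃ z ∈ D.LV l, act z.1 (ev F N l) = v := by
  let u : Fin 3 → F := fun i => v (winEquiv l h (Sum.inl i))
  have hsum : hf 2 v v = hf 2 u u := by
    rw [U.hf_eq, U.hf_eq, ← (winEquiv l h).sum_comp, Fintype.sum_sum_type]
    refine add_eq_left.2 (Finset.sum_eq_zero fun k _ => ?_)
    rw [show v (winEquiv l h (Sum.inr k)) = 0 from hv k.1 (by have := k.2; omega), zero_mul]
  obtain ⟨g, -, eg⟩ := U.move3 H.card ⊤ (fun _ => trivial) (fun _ => trivial) (fun _ _ => trivial)
    (v := u) (by rw [← hsum, h1])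
  refine ⟨(embSU l h U g, D.ψ l g), (D.mem_LV h).2 ⟨g, rfl⟩, ?_⟩
  show act (embSU l h U g) (ev F N l) = v
  rw [act_embSU]
  funext r
  obtain ⟨s, rfl⟩ := (winEquiv l h).surjective r
  rw [Function.comp_apply, Equiv.symm_apply_apply]
  rcases s with i | k
  · rw [Sum.elim_inl, show (fun j : Fin 3 => ev F N l (winEquiv l h (Sum.inl j))) = ev F 3 0 from
      funext fun j => by simp [ev, winEquiv], eg]
  · have hk := k.2
    rw [show v (winEquiv l h (Sum.inr k)) = 0 from hv k.1 (by omega)]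
    have : (k.1 : ℕ) ≠ l := by omega
    simp [ev, this]

/-- The lifts of a window of length four. -/
theorem exists_four_window {k : ℕ} (hk : k + 4 ≤ N) :
    ∃ W : Subgroup (SU N F 2 × G), D.LS k ≤ W ∧ D.LS (k + 2) ≤ W ∧ D.LV k ≤ W ∧ D.LV (k + 1) ≤ W ∧
      (∀ z ∈ W, z.1 = 1 → z = 1) ∧
      (∀ z ∈ W, act z.1 (ev F N k) = ev F N k → z ∈ D.LV (k + 1)) ∧
      W ≤ D.LS k ⊔ D.LV (k + 1) := by
  obtain ⟨f, hf0, hf1⟩ := H.ext k hk
  set Φ := (embSU k hk U).prod f with hΦ
  have p0 : ∀ A : SU 3 F 2, Φ (embSU 0 (by norm_num) U A) = (embSU k (by omega) U A, D.ψ k A) := fun A =>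
    Prod.ext (by
      show embSU k hk U _ = _
      rw [embSU_embSU k hk 0 (by norm_num) (by omega) U]
      rfl) (hf0 A)
  have p1 : ∀ A : SU 3 F 2, Φ (embSU 1 (by norm_num) U A) = (embSU (k + 1) (by omega) U A, D.ψ (k + 1) A) :=
    fun A => Prod.ext (by
      show embSU k hk U _ = _
      rw [embSU_embSU k hk 1 (by norm_num) (by omega) U]) (hf1 A)
  have q0 : D.LV k ≤ Φ.range := fun z hz => by
    obtain ⟨A, rfl⟩ := (D.mem_LV (by omega)).1 hz
    exact ⟨_, p0 A⟩
  have q1 : D.LV (k + 1) ≤ Φ.range := fun z hz => by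
    obtain ⟨A, rfl⟩ := (D.mem_LV (by omega)).1 hz
    exact ⟨_, p1 A⟩
  refine ⟨Φ.range, (D.LS_le_LV (by omega)).trans q0, (D.LS_succ_le_LV (by omega)).trans q1, q0, q1, ?_, ?_, ?_⟩
  · rintro _ ⟨X, rfl⟩ e
    have : X = 1 := embSU_injective k hk U (e.trans (map_one _).symm)
    rw [this, map_one]
  · rintro _ ⟨X, rfl⟩ e
    have hX : X ∈ FB F 2 4 1 (1 + 3) := fun i hi hi' => by
      obtain rfl : i = 0 := by omega
      exact emb_fix_zero hk (by norm_num) e
    obtain ⟨B, rfl⟩ := mem_range_embSU (N := 4) (m := 3) 1 (by norm_num) U hX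
    rw [p1]; exact (D.mem_LV (by omega)).2 ⟨B, rfl⟩
  · rintro _ ⟨X, rfl⟩
    have : (D.LS k ⊔ D.LV (k + 1)).comap Φ = ⊤ := by
      refine U.gen4 H.card _ (fun a => ?_) (fun a => ?_)
      · refine Subgroup.mem_sup_left ?_
        show Φ (embSU 0 _ U a) ∈ D.LS k
        rw [show embSU (N := 4) 0 (by norm_num) U a = embSU 0 (by norm_num) U (embSU (N := 3) 0 (by norm_num) U a) by
          rw [embSU_embSU 0 (by norm_num) 0 (by norm_num) (by norm_num) U], p0, D.h0 k (by omega),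
          embSU_embSU k (by omega) 0 (by norm_num) (by omega) U]
        exact (D.mem_LS (by omega)).2 ⟨a, rfl⟩
      · refine Subgroup.mem_sup_right ?_
        show Φ (embSU 1 _ U a) ∈ D.LV (k + 1)
        rw [p1]; exact (D.mem_LV (by omega)).2 ⟨a, rfl⟩
    exact (this ▸ Subgroup.mem_top X : X ∈ (D.LS k ⊔ D.LV (k + 1)).comap Φ)

theorem step {k : ℕ} (hk : k + 4 ≤ N) (S1 : D.St (k + 1)) (S2 : D.St (k + 2)) : D.Step k where
  hk := hk
  S1 := S1
  S2 := S2
  gen := D.Gam_le_iff.2 fun l hl => by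
    rcases hl.eq_or_lt with e | e
    · subst e
      obtain ⟨W, -, -, hV, -, -, -, hW⟩ := H.exists_four_window hk
      exact ⟨le_sup_left, (hV.trans hW).trans (sup_le le_sup_left ((D.LV_le_Gam le_rfl).trans le_sup_right))⟩
    · exact ⟨(D.LS_le_Gam e).trans le_sup_right, (D.LV_le_Gam e).trans le_sup_right⟩
  comm := fun z hz z' hz' => by
    suffices D.Gam (k + 2) ≤ Subgroup.centralizer {z} from
      (Subgroup.mem_centralizer_singleton_iff.1 (this hz')).symm
    refine D.Gam_le_iff.2 fun l hl => ⟨fun w hw => Subgroup.mem_centralizer_singleton_iff.2 (D.LS_comm hl hz hw).symm,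
      fun w hw => Subgroup.mem_centralizer_singleton_iff.2 ?_⟩
    by_cases h3 : l + 3 ≤ N
    · obtain ⟨A, rfl⟩ := (D.mem_LS (by omega)).1 hz
      obtain ⟨B, rfl⟩ := (D.mem_LV h3).1 hw
      exact (Prod.ext (U.FB_comm hl (embSU_mem _ _ _ _) (embSU_mem _ _ _ _)) (H.AV k l hl h3 A B)).symm
    · rw [D.LV_eq_bot h3, Subgroup.mem_bot] at hw
      simp [hw]
  diag := fun h0 l h J hJ => by
    obtain ⟨W, hS, -, -, hV1, -, hfix, -⟩ := H.exists_four_window hk
    set e := D.el h0 l 0 h with he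
    refine D.LV_le_Gam le_rfl (hfix _ (mul_mem (mul_mem (inv_mem (hS (D.el_mem _ _ _ _))) (hV1 hJ))
      (hS (D.el_mem _ _ _ _))) ?_)
    have e0 : act e.1 (ev F N k) = l • ev F N k := by rw [he, el_act0]; simp
    rw [Prod.fst_mul, act_mul, e0, Prod.fst_mul, act_mul, act_smul,
      FB_act_out (D.LV_fb (by omega) hJ) (by omega) (Or.inl (by omega)), ← e0, Prod.fst_inv, act_inv_act]

theorem LV_comm_Gam {k : ℕ} (hk : k + 3 ≤ N) {z z' : SU N F 2 × G} (hz : z ∈ D.LV k)
    (hz' : z' ∈ D.Gam (k + 3)) : z * z' = z' * z := by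
  suffices D.Gam (k + 3) ≤ Subgroup.centralizer {z} from
    (Subgroup.mem_centralizer_singleton_iff.1 (this hz')).symm
  obtain ⟨A, rfl⟩ := (D.mem_LV hk).1 hz
  refine D.Gam_le_iff.2 fun l hl => ⟨fun w hw => Subgroup.mem_centralizer_singleton_iff.2 ?_,
    fun w hw => Subgroup.mem_centralizer_singleton_iff.2 ?_⟩
  · by_cases h2 : l + 2 ≤ N
    · obtain ⟨B, rfl⟩ := (D.mem_LS h2).1 hw
      exact (Prod.ext (U.FB_comm hl (embSU_mem _ _ _ _) (embSU_mem _ _ _ _)) (H.VA k l hl h2 A B)).symm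
    · rw [D.LS_eq_bot h2, Subgroup.mem_bot] at hw
      simp [hw]
  · by_cases h3 : l + 3 ≤ N
    · obtain ⟨B, rfl⟩ := (D.mem_LV h3).1 hw
      exact (Prod.ext (U.FB_comm hl (embSU_mem _ _ _ _) (embSU_mem _ _ _ _)) (H.VV k l hl h3 A B)).symm
    · rw [D.LV_eq_bot h3, Subgroup.mem_bot] at hw
      simp [hw]

/-- The coset over the normal form vector does not depend on the middle vector. -/
theorem normal_indep {k : ℕ} (S : D.Step k) (h5 : k + 5 ≤ N) (S3 : D.St (k + 3)) {l : F} (hl : U.nm l = 1) :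
    ∃ z : SU N F 2 × G, ∀ w : Fin N → F, Win (k + 1) N w → hf 2 w w = 1 →
      hf 2 (l • ev F N k + U.σ l • ev F N (k + 1) + ev F N (k + 2)) w = 0 →
      D.R k (D.nb k (D.nb k 1 w) (l • ev F N k + U.σ l • ev F N (k + 1) + ev F N (k + 2))) z := by
  have h2 := U.two_eq_zero H.card
  have l0 := S.lt0; have l1 := S.lt1; have l2 := S.lt2
  have l3 : k + 3 < N := by omega
  have l4 : k + 4 < N := by omega
  set c := l • ev F N k + U.σ l • ev F N (k + 1) + ev F N (k + 2) with hc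
  have hcW : Win k (k + 3) c := (((Win_ev le_rfl (by omega)).smul l).add ((Win_ev (by omega) (by omega)).smul _)).add
    (Win_ev (by omega) (by omega))
  have hcc : hf 2 c c = 1 := by
    simp only [hc, U.add_l, U.add_r, U.smul_l, U.smul_r, U.ev_self l0, U.ev_self l1, U.ev_self l2,
      U.ev_ne l0 l1 (by omega), U.ev_ne l0 l2 (by omega), U.ev_ne l1 l0 (by omega),
      U.ev_ne l1 l2 (by omega), U.ev_ne l2 l0 (by omega), U.ev_ne l2 l1 (by omega), U.hσσ]
    simp only [UF.nm] at hl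
    linear_combination 2 * hl + h2
  have hcU : Un U k c := ⟨hcW.mono le_rfl (by omega), hcc⟩
  obtain ⟨z, hzV, hze⟩ := H.move_LV (show k + 3 ≤ N by omega) hcW hcc
  have hc3 : ∀ {i : ℕ} (hi : i < N), k + 3 ≤ i → hf 2 c (ev F N i) = 0 := fun hi h => by
    rw [U.ev_r _ hi]; exact hcW _ (Or.inr (by simpa using h))
  obtain ⟨W, hSW, -, hVW, hV1W, -, hfixW, -⟩ := H.exists_four_window (show k + 4 ≤ N by omega)
  -- the middle vector `e (k + 3)`
  have base : D.R k (D.nb k (D.nb k 1 (ev F N (k + 3))) c) z := by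
    obtain ⟨r, hr, er⟩ := H.move_LV (l := k + 1) (by omega) (Win_ev (k := k + 3) (by omega) (by omega)) (U.ev_self l3)
    have hrm : r ∈ D.Gam (k + 1) := D.LV_le_Gam le_rfl hr
    have hn := S.nb1_mem (Win_ev (k := k + 3) (by omega) l3) (U.ev_self l3)
    have a1 : D.R k (D.nb k 1 (ev F N (k + 3))) (r * D.sw k) := by
      simpa using S.nb_mk (g := 1) hrm (w := ev F N (k + 3)) (by simpa using er)
    have hg1 : r * D.sw k ∈ W := mul_mem (hV1W hr) (hSW S.sw_mem)
    have eg1 : act (r * D.sw k).1 (ev F N k) = ev F N (k + 3) := by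
      rw [Prod.fst_mul, act_mul, S.sw_act0, er]
    have hwin : (r * D.sw k).1 ∈ FB F 2 N k (k + 4) :=
      mul_mem (FB_mono (by omega) (by omega) (D.LV_fb (by omega) hr))
        (FB_mono le_rfl (by omega) (D.LS_fb (by omega) S.sw_mem))
    set x := act (r * D.sw k).1⁻¹ c with hx
    have hxW : Win k (k + 4) x := U.Win_act (inv_mem hwin) (hcW.mono le_rfl (by omega))
    have hx0 : hf 2 x (ev F N k) = 0 := by
      rw [← hf_act (r * D.sw k).1, hx, act_act_inv, eg1, hc3 l3 le_rfl]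
    have hxW' : Win (k + 1) (k + 1 + 3) x := fun i hi => by
      by_cases e : (i : ℕ) = k
      · rw [U.ev_r x l0] at hx0
        rwa [show i = ⟨k, l0⟩ from Fin.ext e]
      · exact hxW i (by omega)
    obtain ⟨j, hj, ej⟩ := H.move_LV (l := k + 1) (by omega) hxW' (by rw [hx, hf_act]; exact hcc)
    have ej' : act (r * D.sw k * j).1 (ev F N (k + 1)) = c := by
      rw [Prod.fst_mul, act_mul, ej, hx, act_act_inv]
    refine (S.nb_congr hn.1 a1 hcU (by rw [hn.2]; exact hc3 l3 le_rfl)).trans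
      ((S.nb_mk (D.LV_le_Gam le_rfl hj) ej').trans ?_)
    refine D.LV_le_Gam le_rfl (hfixW _ (mul_mem (inv_mem (mul_mem (mul_mem hg1 (hV1W hj)) (hSW S.sw_mem)))
      (hVW hzV)) ?_)
    rw [Prod.fst_mul, act_mul, hze, Prod.fst_inv]
    refine act_inv_eq ?_
    rw [Prod.fst_mul, act_mul, S.sw_act0, ej']
  -- middle vectors supported beyond the normal form
  have far : ∀ u : Fin N → F, Win (k + 3) N u → hf 2 u u = 1 → D.R k (D.nb k (D.nb k 1 u) c) z := by
    intro u hu hu1
    obtain ⟨x, hx, ex⟩ := S3.trans u hu hu1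
    have hx1 : x ∈ D.Gam (k + 1) := D.Gam_mono (by omega) hx
    have hxc : act x.1 c = c := U.FB_act_perp (D.Gam_fb hx) fun i hi _ => hcW i (Or.inr hi)
    have := S.nb2_K hx1 (Win_ev (k := k + 3) (by omega) l3) (U.ev_self l3) hcU (hc3 l3 le_rfl)
    rw [ex, hxc] at this
    refine this.trans ((base.left x).trans ?_)
    rw [← H.LV_comm_Gam (by omega) hzV hx]
    show (z * x)⁻¹ * z ∈ D.Gam (k + 1)
    rw [show (z * x)⁻¹ * z = x⁻¹ by group]
    exact inv_mem hx1
  refine ⟨z, fun w hw hw1 hcw => ?_⟩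
  -- the part of `w` beyond the normal form is a unit vector
  set p := w ⟨k + 1, l1⟩ with hp
  set r := w ⟨k + 2, l2⟩ with hr
  set w'' := w - p • ev F N (k + 1) - r • ev F N (k + 2) with hw''
  have hwW : Win (k + 3) N w'' := by
    intro i hi
    by_cases e1 : (i : ℕ) = k + 1
    · obtain rfl : i = ⟨k + 1, l1⟩ := Fin.ext e1
      simp [hw'', ev, hp]
    by_cases e2 : (i : ℕ) = k + 2
    · obtain rfl : i = ⟨k + 2, l2⟩ := Fin.ext e2
      simp [hw'', ev, hr]
    simp [hw'', ev, e1, e2, hw i (by omega)]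
  have hwev : ∀ {x : Fin N → F}, Win (k + 3) N x → ∀ {i : ℕ} (hi : i < N), i < k + 3 → hf 2 (ev F N i) x = 0 :=
    fun hx _ hi h => U.win_om hx hi (Or.inl h)
  have we : w = w'' + p • ev F N (k + 1) + r • ev F N (k + 2) := by rw [hw'']; abel
  have hrel : U.σ l * U.σ p + U.σ r = 0 := by
    rw [we] at hcw
    have e0 : hf 2 c w'' = 0 := by
      simp only [hc, U.add_l, U.smul_l, hwev hwW l0 (by omega), hwev hwW l1 (by omega), hwev hwW l2 (by omega)]
      ring
    simp only [U.add_r, U.smul_r, e0, U.ev_r c l1, U.ev_r c l2] at hcw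
    simp [hc, ev] at hcw
    linear_combination hcw
  have hww : hf 2 w'' w'' = 1 := by
    have hne : ∀ {i : ℕ} (hi : i < N), i < k + 3 → hf 2 w'' (ev F N i) = 0 := fun hi h => by
      rw [U.ev_r _ hi]; exact hwW _ (Or.inl (by simpa using h))
    have := hw1
    rw [we] at this
    simp only [U.add_l, U.add_r, U.smul_l, U.smul_r, hne l1 (by omega), hne l2 (by omega),
      hwev hwW l1 (by omega), hwev hwW l2 (by omega), U.ev_self l1, U.ev_self l2,
      U.ev_ne l1 l2 (by omega), U.ev_ne l2 l1 (by omega)] at this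
    have hrel' : l * p + r = 0 := by
      have e := congrArg U.σ hrel
      simpa [U.hσσ] using e
    simp only [UF.nm] at hl
    linear_combination this - (p * U.σ p) * h2 + (p * U.σ p) * (-hl) - r * hrel + U.σ l * U.σ p * hrel'
  obtain ⟨x, hx, ex⟩ := S3.trans w'' hwW hww
  set u := act x.1 (ev F N (k + 4)) with hu
  have huW : Win (k + 3) N u := U.Win_act (D.Gam_fb hx) (Win_ev (by omega) l4)
  have hu1 : hf 2 u u = 1 := by rw [hu, hf_act, U.ev_self l4]
  have huw : hf 2 u w = 0 := by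
    have e0 : hf 2 u w'' = 0 := by rw [hu, ← ex, hf_act, U.ev_ne l4 l3 (by omega)]
    have ne : ∀ {i : ℕ} (hi : i < N), i < k + 3 → hf 2 u (ev F N i) = 0 := fun hi h => by
      rw [U.ev_r _ hi]; exact huW _ (Or.inl (by simpa using h))
    rw [we]
    simp only [U.add_r, U.smul_r, e0, ne l1 (by omega), ne l2 (by omega)]
    ring
  have hcu : hf 2 c u = 0 := by
    simp only [hc, U.add_l, U.smul_l, hwev huW l0 (by omega), hwev huW l1 (by omega), hwev huW l2 (by omega)]
    ring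
  exact (S.indep_swap hw hw1 (huW.mono (by omega) le_rfl) hu1 hcU hcw hcu
    (by rw [huw, U.nm_zero]; exact zero_ne_one)).trans (far u huW hu1)

/-- Independence of the middle vector. -/
theorem indep {k : ℕ} (S : D.Step k) (h5 : k + 5 ≤ N) (S3 : D.St (k + 3)) {w w' c : Fin N → F}
    (hw : Win (k + 1) N w) (hw1 : hf 2 w w = 1) (hw' : Win (k + 1) N w') (hw1' : hf 2 w' w' = 1)
    (hc : Un U k c) (hcw : hf 2 c w = 0) (hcw' : hf 2 c w' = 0) :
    D.R k (D.nb k (D.nb k 1 w) c) (D.nb k (D.nb k 1 w') c) := by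
  have h2 := U.two_eq_zero H.card
  by_cases hd : U.nm (c ⟨k, S.lt0⟩) ≠ 1 ∨ c = c ⟨k, S.lt0⟩ • ev F N k
  · exact S.indep_one hw hw1 hw' hw1' hc hcw hcw' hd
  push Not at hd
  obtain ⟨hl, hcne⟩ := hd
  set l := c ⟨k, S.lt0⟩ with hldef
  set r := c - l • ev F N k with hr
  have hrw : Win (k + 1) N r := hc.1.split S.lt0
  have hr0 : r ≠ 0 := fun e => hcne (sub_eq_zero.1 e)
  have hrr : hf 2 r r = 0 := by
    have e2 : hf 2 c (ev F N k) = l := U.ev_r c S.lt0
    rw [hr, U.sub_r, U.smul_r, ← hr, S.perp_succ hrw, mul_zero, sub_zero, hr, U.sub_l, U.smul_l, hc.2,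
      ← U.swap, e2]
    rw [← hl, UF.nm, sub_self]
  obtain ⟨j, hj⟩ : ∃ j : Fin N, r j ≠ 0 := Function.ne_iff.1 hr0
  have hjk : k + 1 ≤ (j : ℕ) := by
    by_contra hh
    exact hj (hrw j (Or.inl (by omega)))
  set z := (U.σ (r j))⁻¹ • ev F N (j : ℕ) with hz
  have hzr : hf 2 z r = 1 := by
    rw [hz, U.smul_l, ← U.swap, U.ev_r _ j.isLt, inv_mul_cancel₀ ((map_ne_zero U.σ).2 hj)]
  have hrz : hf 2 r z = 1 := by rw [← U.swap, hzr, map_one]
  obtain ⟨z0, hz0⟩ := U.exists_trace
  set t := (1 - hf 2 z z) * z0 with ht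
  set a := z + t • r with ha
  have haW : Win (k + 1) N a := ((Win_ev hjk j.isLt).smul _).add (hrw.smul t)
  have har : hf 2 a r = 1 := by rw [ha, U.add_l, hzr, U.smul_l, hrr]; ring
  have hra : hf 2 r a = 1 := by rw [← U.swap, har, map_one]
  have haa : hf 2 a a = 1 := by
    simp only [ha, U.add_l, U.add_r, U.smul_l, U.smul_r, hzr, hrz, hrr, ht, map_mul, map_sub, map_one,
      U.hf_self_fix]
    linear_combination (1 - hf 2 z z) * hz0
  set b := r - a with hb
  have hbW : Win (k + 1) N b := hrw.sub haW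
  have hba : hf 2 b a = 0 := by rw [hb, U.sub_l, hra, haa, sub_self]
  have hbb : hf 2 b b = 1 := by
    rw [show hf 2 b b = hf 2 b r - hf 2 b a by rw [← U.sub_r, ← hb], hba, hb, U.sub_l, hrr, har]
    linear_combination (-1 : F) * h2
  have hl' : l * U.σ l = 1 := hl
  obtain ⟨g, hg, e1, e2⟩ := S.frame2 (haW.smul l)
    (by rw [U.smul_l, U.smul_r, haa, mul_one]; exact hl') hbW hbb
    (by rw [U.smul_r, hba, mul_zero])
  set cl := l • ev F N k + U.σ l • ev F N (k + 1) + ev F N (k + 2) with hcl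
  have egc : act g.1 cl = c := by
    rw [hcl, act_add, act_add, act_smul, act_smul, S.K_fix hg, e1, e2, smul_smul,
      show U.σ l * l = 1 by rw [mul_comm]; exact hl', one_smul, hb, hr]
    abel
  obtain ⟨zl, hzl⟩ := H.normal_indep S h5 S3 hl
  have hclU : Un U k cl := by
    rw [show cl = act g.1⁻¹ c by rw [← egc, act_inv_act]]
    exact S.Un_act_inv (D.Gam_mono (Nat.le_succ k) hg) hc
  have key : ∀ x : Fin N → F, Win (k + 1) N x → hf 2 x x = 1 → hf 2 c x = 0 →
      D.R k (D.nb k (D.nb k 1 x) c) (g * zl) := by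
    intro x hx hx1 hcx
    set x0 := act g.1⁻¹ x with hx0
    have hxW : Win (k + 1) N x0 := U.Win_act (inv_mem (D.Gam_fb hg)) hx
    have hx01 : hf 2 x0 x0 = 1 := by rw [hx0, hf_act]; exact hx1
    have hcx0 : hf 2 cl x0 = 0 := by rw [← hf_act g.1, egc, hx0, act_act_inv]; exact hcx
    have := S.nb2_K hg hxW hx01 hclU hcx0
    rw [hx0, act_act_inv, egc] at this
    exact this.trans ((hzl x0 hxW hx01 hcx0).left g)
  exact (key w hw hw1 hcw).trans (key w' hw' hw1' hcw').symm

/-- All states. -/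
theorem state_all : ∀ d k : ℕ, k + 2 + d = N → D.St k := by
  intro d
  induction d using Nat.strong_induction_on with
  | _ d ih =>
    intro k hk
    match d, ih, hk with
    | 0, _, hk => exact D.state_two (by omega)
    | 1, _, hk =>
      refine D.state_three_of (by omega) fun v hv h1 => ?_
      obtain ⟨z, hz, e⟩ := H.move_LV (show k + 3 ≤ N by omega) (hv.mono le_rfl (by omega)) h1
      exact ⟨z, D.LV_le_Gam le_rfl hz, e⟩
    | d + 2, ih, hk =>
      have S : D.Step k := H.step (by omega)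
        (ih (d + 1) (by omega) (k + 1) (by omega)) (ih d (by omega) (k + 2) (by omega))
      by_cases h5 : k + 5 ≤ N
      · exact S.state ⟨Or.inr U.nm_zero_one, fun hw hw1 hw' hw1' hc hcw hcw' =>
          H.indep S h5 (ih (d - 1) (by omega) (k + 3) (by omega)) hw hw1 hw' hw1' hc hcw hcw'⟩
      obtain ⟨W, hS0, hS2, hV0, hV1, hfun, -, -⟩ := H.exists_four_window (show k + 4 ≤ N by omega)
      refine ⟨fun z hz e => ?_, fun g hg => onto_of_trans S.lt0 S.S1 (fun _ a b => S.trans_top a b) hg,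
        fun v hv h1 => S.trans_top hv h1⟩
      refine hfun z (?_ : z ∈ W) e
      refine (D.Gam_le_iff.2 fun i hi => ⟨?_, ?_⟩ : D.Gam k ≤ W) hz
      · by_cases hiN : i + 2 ≤ N
        · obtain rfl | rfl | rfl : i = k ∨ i = k + 1 ∨ i = k + 2 := by omega
          · exact hS0
          · exact (D.LS_succ_le_LV (by omega)).trans hV0
          · exact hS2
        · rw [D.LS_eq_bot hiN]; exact bot_le
      · by_cases hiN : i + 3 ≤ N
        · obtain rfl | rfl : i = k ∨ i = k + 1 := by omega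
          · exact hV0
          · exact hV1
        · rw [D.LV_eq_bot hiN]; exact bot_le

end Dat.Two

end CfsgLib.Chev.CT.Phan
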