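/-
Eigenvectors of elements of order three of the unitary group in four variables over four elements.
-/
import Cfsg.Agent.Lib.Chev.CT.Phan.Two.Base
import Mathlib.LinearAlgebra.Matrix.ToLin
import Mathlib.LinearAlgebra.FiniteDimensional.Basic

set_option autoImplicit false

namespace CfsgLib.Chev.CT.Phan

open Matrix Cfsg

universe u v

variable {F : Type u} [Field F]

namespace UF

section Gen

variable {q : ℕ} (U : UF F q)
include U

/-- An orthonormal frame is, up to scalars, the image of the standard one. -/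
theorem exists_frame_four (e : Fin 4 → Fin 4 → F) (h : ∀ k l, hf q (e k) (e l) = if k = l then 1 else 0) :
    ∃ γ : SU 4 F q, ∀ k : Fin 4, ∃ c : F, c ≠ 0 ∧ act γ (ev F 4 (k : ℕ)) = c • e k := by
  set M : Matrix (Fin 4) (Fin 4) F := Matrix.of fun r k => e k r with hM
  have hMM : Mᵀ * M.map U.σ = 1 := by
    ext k l
    rw [Matrix.one_apply, ← h k l, U.hf_eq]
    simp [hM, Matrix.mul_apply]
  have hd : M.det * U.σ M.det = 1 := by
    have := congrArg Matrix.det hMM
    rwa [det_mul, det_transpose, det_one, ← RingHom.mapMatrix_apply, ← RingHom.map_det] at this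
  set d := M.det
  have hd0 : d ≠ 0 := fun e => by simp [e] at hd
  set δ : Fin 4 → F := ![1, 1, 1, U.σ d] with hδ
  have hδ1 : ∀ k, U.nm (δ k) = 1 := fun k => by
    fin_cases k <;> simp [hδ, U.nm_one, U.nm_sigma]
    exact hd
  have hdet : (M * diagonal δ).det = 1 := by
    rw [det_mul, det_diagonal]
    simpa [hδ, Fin.prod_univ_four] using hd
  have hv : ∀ u : Fin 4 → F, (M * diagonal δ) *ᵥ u = fun r => ∑ k, δ k * u k * e k r := fun u => by
    funext r
    rw [← mulVec_mulVec]
    simp [hM, mulVec, dotProduct, diagonal_apply]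
    exact Finset.sum_congr rfl fun k _ => by ring
  have hform : ∀ u v, hermForm 4 F q ((M * diagonal δ) *ᵥ u) ((M * diagonal δ) *ᵥ v) =
      hermForm 4 F q u v := by
    intro u v
    have e1 : ∀ u : Fin 4 → F, (fun r => ∑ k, δ k * u k * e k r) = (δ 0 * u 0) • e 0 + (δ 1 * u 1) • e 1
        + (δ 2 * u 2) • e 2 + (δ 3 * u 3) • e 3 := fun u => by
      funext r; simp [Fin.sum_univ_four]
    rw [hv, hv, e1, e1]
    show hf q _ _ = hf q u v
    simp only [U.add_l, U.add_r, U.smul_l, U.smul_r, h, U.hf_eq u v, Fin.sum_univ_four]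
    have h0 := hδ1 0; have h1 := hδ1 1; have h2 := hδ1 2; have h3 := hδ1 3
    simp only [nm] at h0 h1 h2 h3
    simp
    linear_combination (u 0 * U.σ (v 0)) * h0 + (u 1 * U.σ (v 1)) * h1 + (u 2 * U.σ (v 2)) * h2 +
      (u 3 * U.σ (v 3)) * h3
  refine ⟨⟨⟨M * diagonal δ, hdet⟩, hform⟩, fun k => ⟨δ k, fun e0 => by simpa [e0, nm] using hδ1 k, ?_⟩⟩
  show (M * diagonal δ) *ᵥ ev F 4 (k : ℕ) = _
  rw [hv]
  funext r
  rw [Finset.sum_eq_single k]
  · simp [ev]
  · intro l _ hl
    have : (l : ℕ) ≠ k := fun e => hl (Fin.ext e)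
    simp [ev, this]
  · simp

/-- Eigenvectors of eigenvalues of norm one are orthogonal unless the values agree. -/
theorem eig_perp {N : ℕ} {t : SU N F q} {x y : Fin N → F} {s s' : F} (hx : act t x = s • x)
    (hy : act t y = s' • y) (hs' : U.nm s' = 1) (hss : s ≠ s') : hf q x y = 0 := by
  have h := hf_act t x y
  rw [hx, hy, U.smul_l, U.smul_r] at h
  refine (mul_eq_zero.1 (show (s - s') * (U.σ s' * hf q x y) = 0 by
    simp only [nm] at hs'
    linear_combination h - hf q x y * hs')).resolve_left (sub_ne_zero.2 hss) |> fun e =>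
      (mul_eq_zero.1 e).resolve_left fun e0 => ?_
  rw [nm, e0, mul_zero] at hs'
  exact zero_ne_one hs'

/-- A vector orthogonal to all basis vectors but one. -/
theorem eq_smul_ev {N : ℕ} {w : Fin N → F} (k : Fin N) (h : ∀ j : Fin N, j ≠ k → hf q w (ev F N (j : ℕ)) = 0) :
    w = w k • ev F N (k : ℕ) := by
  funext j
  by_cases e : j = k
  · subst e; simp [ev]
  · have h' := h j e
    rw [U.ev_r _ j.isLt] at h'
    have : (j : ℕ) ≠ k := fun e' => e (Fin.ext e')
    simpa [ev, this] using h'

/-- A fourth vector completing an orthonormal triple. -/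
theorem exists_fourth_four (e : Fin 3 → Fin 4 → F) (h : ∀ k l, hf q (e k) (e l) = if k = l then 1 else 0) :
    ∃ x : Fin 4 → F, hf q x x = 1 ∧ ∀ k, hf q x (e k) = 0 := by
  let L : (Fin 4 → F) →ₗ[F] (Fin 3 → F) :=
    { toFun := fun x k => hf q x (e k)
      map_add' := fun x y => by funext k; exact U.add_l x y _
      map_smul' := fun c x => by funext k; exact U.smul_l c x _ }
  obtain ⟨x, hx0, hx⟩ : ∃ x, x ≠ 0 ∧ L x = 0 := by
    by_contra hne
    push Not at hne
    have hi : Function.Injective L := by
      rw [injective_iff_map_eq_zero]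
      intro x hx
      by_contra hx0
      exact hne x hx0 hx
    have := LinearMap.finrank_le_finrank_of_injective hi
    simp at this
  have hk : ∀ k, hf q x (e k) = 0 := fun k => congrFun hx k
  by_cases hxx : hf q x x = 0
  · exfalso
    have hd : Module.finrank F (Fin 4 → F) = 4 := Module.finrank_fin_fun F
    let f : Fin 4 → Fin 4 → F := Fin.cases x e
    have li : LinearIndependent F f := by
      rw [Fintype.linearIndependent_iff]
      intro g hg
      rw [Fin.sum_univ_succ] at hg
      simp only [f, Fin.cases_zero, Fin.cases_succ] at hg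
      rw [Fin.sum_univ_three] at hg
      have hs : ∀ k : Fin 3, g k.succ = 0 := by
        intro k
        have := congrArg (fun w => hf q w (e k)) hg
        simp only [U.add_l, U.smul_l, hk, h, U.zero_l] at this
        fin_cases k <;> simpa using this
      intro i
      refine Fin.cases ?_ hs i
      rw [hs 0, hs 1, hs 2, zero_smul, zero_smul, zero_smul, add_zero, add_zero, add_zero] at hg
      exact (smul_eq_zero.1 hg).resolve_right hx0
    have htop := li.span_eq_top_of_card_eq_finrank (by rw [hd, Fintype.card_fin])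
    apply hx0
    funext j
    have hall : ∀ w ∈ Submodule.span F (Set.range f), hf q x w = 0 := by
      intro w hw
      induction hw using Submodule.span_induction with
      | mem w hw =>
        obtain ⟨i, rfl⟩ := hw
        refine Fin.cases ?_ (fun k => ?_) i
        · exact hxx
        · exact hk k
      | zero => exact U.zero_r x
      | add a b _ _ ha hb => rw [U.add_r, ha, hb, add_zero]
      | smul c a _ ha => rw [U.smul_r, ha, mul_zero]
    have := hall (ev F 4 (j : ℕ)) (htop ▸ Submodule.mem_top)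
    rwa [U.ev_r _ j.isLt] at this
  obtain ⟨c, -, hc⟩ := U.exists_unit_smul hxx
  exact ⟨c • x, hc, fun k => by rw [U.smul_l, hk, mul_zero]⟩

/-- The entries of a diagonal element multiply to one. -/
theorem det_diag {N : ℕ} {g : SU N F q} {c : Fin N → F}
    (h : ∀ k : Fin N, act g (ev F N (k : ℕ)) = c k • ev F N (k : ℕ)) : ∏ k, c k = 1 := by
  have hg : g.1.1 = diagonal c := Matrix.ext_of_mulVec_single fun k => by
    have := h k
    rw [ev_fin] at this
    rw [show g.1.1 *ᵥ Pi.single k 1 = act g (Pi.single k 1) from rfl, this]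
    funext r
    by_cases e : r = k
    · subst e; simp
    · simp [e]
  have := g.1.2
  rwa [hg, det_diagonal] at this

end Gen

section Eig

variable (U : UF F 2) [Fintype F] (hF : Fintype.card F = 4)
include U hF

omit hF in
/-- Part of a vector in an eigenspace of an element of order three. -/
def eigPart {N : ℕ} (T : SU N F 2) (a : F) (v : Fin N → F) : Fin N → F :=
  v + (a * a) • act T v + a • act T (act T v)

omit U hF [Fintype F] in
theorem eigPart_act {N : ℕ} {T : SU N F 2} (hT : T ^ 3 = 1) {a : F} (ha : a ^ 3 = 1) (v : Fin N → F) :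
    act T (eigPart T a v) = a • eigPart T a v := by
  have h3 : act T (act T (act T v)) = v := by
    rw [← act_mul, ← act_mul, show T * T * T = T ^ 3 by rw [pow_succ, pow_two], hT, act_one]
  simp only [eigPart, act_add, act_smul, h3, smul_add, smul_smul]
  rw [show a * (a * a) = 1 by linear_combination ha, one_smul]
  abel

omit U hF [Fintype F] in
theorem eigPart_comm {N : ℕ} {T S : SU N F 2} (h : S * T = T * S) {a b : F} {v : Fin N → F}
    (hv : act S v = b • v) : act S (eigPart T a v) = b • eigPart T a v := by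
  have h' : ∀ w, act S (act T w) = act T (act S w) := fun w => by rw [← act_mul, h, act_mul]
  simp only [eigPart, act_add, act_smul, h', hv, smul_add, smul_smul, mul_comm b]

/-- The parts in the three eigenspaces add up. -/
theorem eigPart_sum {N : ℕ} (T : SU N F 2) {ω : F} (hω : ω ^ 2 + ω + 1 = 0) (v : Fin N → F) :
    eigPart T 1 v + eigPart T ω v + eigPart T (ω ^ 2) v = v := by
  have h2 := U.two_eq_zero hF
  simp only [eigPart]
  match_scalars
  · linear_combination h2
  · linear_combination (ω ^ 2 - ω + 1) * hω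
  · linear_combination hω

omit hF [Fintype F] in
theorem hf_eigPart {N : ℕ} {T : SU N F 2} {a : F} (ha : U.nm a = 1) {u : Fin N → F}
    (hu : act T u = a • u) (w : Fin N → F) : hf 2 u (eigPart T a w) = 3 * hf 2 u w := by
  have ha' : a * U.σ a = 1 := ha
  have h1 : ∀ w, a * hf 2 u (act T w) = hf 2 u w := fun w => by rw [← U.smul_l, ← hu, hf_act]
  have e1 := h1 w
  have e2 := h1 (act T w)
  simp only [eigPart, U.add_r, U.smul_r, map_mul]
  set X := hf 2 u w
  set Y := hf 2 u (act T w)
  set Z := hf 2 u (act T (act T w))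
  have hsa : U.σ a = a * a := by rw [U.hσ, sq]
  rw [hsa] at ha' ⊢
  linear_combination (a * a * a + 1) * e1 + a * e2 + X * ha'

/-- A nonzero simultaneous eigenvector gives a unit one. -/
theorem exists_unit_eig {N : ℕ} {T S : SU N F 2} (hTS : S * T = T * S) (hT : T ^ 3 = 1) (hS : S ^ 3 = 1)
    {a b : F} (ha : U.nm a = 1) (hb : U.nm b = 1) {u : Fin N → F} (hu : u ≠ 0) (hTu : act T u = a • u)
    (hSu : act S u = b • u) : ∃ x, hf 2 x x = 1 ∧ act T x = a • x ∧ act S x = b • x := by
  have h2 := U.two_eq_zero hF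
  have ha3 : a ^ 3 = 1 := by rw [← U.nm_eq_cube]; exact ha
  have hb3 : b ^ 3 = 1 := by rw [← U.nm_eq_cube]; exact hb
  have fin : ∀ x : Fin N → F, hf 2 x x ≠ 0 → act T x = a • x → act S x = b • x →
      ∃ x, hf 2 x x = 1 ∧ act T x = a • x ∧ act S x = b • x := fun x hx h h' => by
    obtain ⟨c, -, hc⟩ := U.exists_unit_smul hx
    exact ⟨c • x, hc, by rw [act_smul, h, smul_comm], by rw [act_smul, h', smul_comm]⟩
  by_cases huu : hf 2 u u = 0
  swap
  · exact fin u huu hTu hSu
  obtain ⟨k, hk⟩ := Function.ne_iff.1 hu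
  set w := eigPart T a (eigPart S b (ev F N (k : ℕ))) with hw
  have hTw : act T w = a • w := eigPart_act hT ha3 _
  have hSw : act S w = b • w := eigPart_comm hTS (eigPart_act hS hb3 _)
  have huw : hf 2 u w = u k := by
    rw [hw, U.hf_eigPart ha hTu, U.hf_eigPart hb hSu, U.ev_r _ k.isLt]
    linear_combination (4 * u k) * h2
  by_cases hww : hf 2 w w = 0
  swap
  · exact fin w hww hTw hSw
  obtain ⟨z0, hz0⟩ := U.exists_trace
  set c := z0 / U.σ (u k) with hc
  have hwu : hf 2 w u = U.σ (u k) := by rw [← U.swap, huw]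
  refine ⟨u + c • w, ?_, by rw [act_add, act_smul, hTu, hTw, smul_add, smul_comm],
    by rw [act_add, act_smul, hSu, hSw, smul_add, smul_comm]⟩
  have hk' : u k ≠ 0 := hk
  have hcu : c * U.σ (u k) = z0 := div_mul_cancel₀ _ ((map_ne_zero U.σ).2 hk')
  have hcu' : U.σ c * u k = U.σ z0 := by rw [← hcu, map_mul, U.hσσ]
  simp only [U.add_l, U.add_r, U.smul_l, U.smul_r, huu, huw, hwu, hww]
  linear_combination hcu + hcu' + hz0

end Eig

end UF

end CfsgLib.Chev.CT.Phan
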