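/-
Endomorphisms of the unitary group in three variables over four elements preserving the blocks.
-/
import Cfsg.Agent.Lib.Chev.CT.Phan.Two.Lines

set_option autoImplicit false

namespace CfsgLib.Chev.CT.Phan

open Matrix Cfsg

universe u v

variable {F : Type u} [Field F]

namespace UF

variable (U : UF F 2) [Fintype F] (hF : Fintype.card F = 4)
include U hF

/-- An injective endomorphism fixing the blocks fixes the Fourier element. -/
theorem fix_fourier (β : SU 3 F 2 →* SU 3 F 2)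
    (b0 : ∀ a : SU 2 F 2, β (embSU 0 (by norm_num) U a) = embSU 0 (by norm_num) U a)
    (b1 : ∀ a : SU 2 F 2, β (embSU 1 (by norm_num) U a) = embSU 1 (by norm_num) U a)
    {ω : F} (hω : ω ^ 2 + ω + 1 = 0) {g0 : SU 3 F 2}
    (hg0 : g0.1.1 = !![1, 1, 1; 1, ω, ω ^ 2; 1, ω ^ 2, ω]) : β g0 = g0 := by
  have h2 := U.two_eq_zero hF
  have hωn : U.nm ω = 1 := U.nm_ne_zero fun e => by simp [e] at hω
  have hσω : U.σ ω = ω ^ 2 := U.hσ ω
  have h3 : ω ^ 3 = 1 := by linear_combination (ω - 1) * hω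
  have hx : U.nm ω + U.nm 0 = 1 := by rw [hωn, U.nm_zero, add_zero]
  have hy : U.nm (0 : F) + U.nm 1 = 1 := by rw [U.nm_zero, U.nm_one, zero_add]
  set D : SU 3 F 2 := embSU 1 (by norm_num) U (U.su2 ω 0 hx) with hD
  set y0 : SU 3 F 2 := embSU 0 (by norm_num) U (U.su2 0 1 hy) with hy0
  set y1 : SU 3 F 2 := embSU 1 (by norm_num) U (U.su2 0 1 hy) with hy1
  have D0 : act D (ev F 3 0) = ev F 3 0 := embSU_mem 1 (by norm_num) U _ 0 (by norm_num) (by omega)
  have D1 : act D (ev F 3 1) = ω • ev F 3 1 := by rw [hD, U.su2_act_ev0]; simp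
  have D2 : act D (ev F 3 2) = ω ^ 2 • ev F 3 2 := by
    rw [hD, show ev F 3 2 = ev F 3 (1 + 1) from rfl, U.su2_act_ev1]; simp [hσω]
  have p0 : act (y0 * y1) (ev F 3 0) = ev F 3 1 := by
    rw [act_mul, hy1, embSU_mem (N := 3) (m := 2) 1 (by norm_num) U _ 0 (by norm_num) (by omega), hy0,
      U.su2_act_ev0]
    simp
  have p1 : act (y0 * y1) (ev F 3 1) = ev F 3 2 := by
    rw [act_mul, hy1, U.su2_act_ev0, act_add, act_smul, act_smul, hy0,
      embSU_mem (N := 3) (m := 2) 0 (by norm_num) U _ (1 + 1) (by norm_num) (by omega)]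
    simp
  have p2 : act (y0 * y1) (ev F 3 2) = ev F 3 0 := by
    have e1 : act y1 (ev F 3 2) = ev F 3 1 := by
      rw [hy1, show ev F 3 2 = ev F 3 (1 + 1) from rfl, U.su2_act_ev1]
      simp [U.neg_eq hF]
    have e2 : act y0 (ev F 3 1) = ev F 3 0 := by
      rw [hy0, show ev F 3 1 = ev F 3 (0 + 1) from rfl, U.su2_act_ev1]
      simp [U.neg_eq hF]
    rw [act_mul, e1, e2]
  set π := y0 * y1
  have g00 : act g0 (ev F 3 0) = ev F 3 0 + ev F 3 1 + ev F 3 2 := by
    rw [show ev F 3 0 = Pi.single (0 : Fin 3) (1 : F) from ev_fin (F := F) (0 : Fin 3)]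
    funext r
    simp only [act, Matrix.mulVec_single_one, Matrix.col_apply, hg0]
    fin_cases r <;> simp [ev]
  have g01 : act g0 (ev F 3 1) = ev F 3 0 + ω • ev F 3 1 + ω ^ 2 • ev F 3 2 := by
    rw [show ev F 3 1 = Pi.single (1 : Fin 3) (1 : F) from ev_fin (F := F) (1 : Fin 3)]
    funext r
    simp only [act, Matrix.mulVec_single_one, Matrix.col_apply, hg0]
    fin_cases r <;> simp [ev]
  have g02 : act g0 (ev F 3 2) = ev F 3 0 + ω ^ 2 • ev F 3 1 + ω • ev F 3 2 := by
    rw [show ev F 3 2 = Pi.single (2 : Fin 3) (1 : F) from ev_fin (F := F) (2 : Fin 3)]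
    funext r
    simp only [act, Matrix.mulVec_single_one, Matrix.col_apply, hg0]
    fin_cases r <;> simp [ev]
  have rel1 : π * g0 * D = g0 := by
    refine su_ext fun k hk => ?_
    interval_cases k <;>
      simp only [act_mul, D0, D1, D2, g00, g01, g02, act_add, act_smul, p0, p1, p2, smul_add, smul_smul] <;>
      match_scalars <;> first
        | ring1
        | linear_combination h3
        | linear_combination ω * h3
        | linear_combination -h3
        | linear_combination -ω * h3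
  have rel2 : g0 * π = D * g0 := by
    refine su_ext fun k hk => ?_
    interval_cases k <;>
      simp only [act_mul, D0, D1, D2, g00, g01, g02, act_add, act_smul, p0, p1, p2, smul_add, smul_smul] <;>
      match_scalars <;> first
        | ring1
        | linear_combination h3
        | linear_combination ω * h3
        | linear_combination -h3
        | linear_combination -ω * h3
  have bD : β D = D := b1 _
  have by0 : β y0 = y0 := b0 _
  have by1 : β y1 = y1 := b1 _
  set X := β g0 with hX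
  have x1 : π * X * D = X := by
    have := congrArg β rel1
    simp only [π, map_mul, bD, by0, by1] at this
    exact this
  have x2 : X * π = D * X := by
    have := congrArg β rel2
    simp only [π, map_mul, bD, by0, by1] at this
    exact this
  set C := g0⁻¹ * X with hC
  have gD : g0⁻¹ * π⁻¹ = D * g0⁻¹ := by
    calc g0⁻¹ * π⁻¹ = D * (π * g0 * D)⁻¹ := by group
      _ = D * g0⁻¹ := by rw [rel1]
  have cD : C * D = D * C := by
    calc C * D = g0⁻¹ * π⁻¹ * (π * X * D) := by rw [hC]; group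
      _ = D * g0⁻¹ * X := by rw [x1, gD]
      _ = D * C := by rw [hC, mul_assoc]
  have cπ : C * π = π * C := by
    calc C * π = g0⁻¹ * (D * X) := by rw [hC, mul_assoc, x2]
      _ = g0⁻¹ * (D * g0) * (g0⁻¹ * X) := by group
      _ = π * C := by rw [← rel2, inv_mul_cancel_left, hC]
  have n1 : U.nm (1 : F) = 1 := U.nm_one
  have nω2 : U.nm (ω ^ 2) = 1 := by rw [sq, U.nm_mul, hωn, one_mul]
  have hω1 : ω ≠ 1 := fun e => one_ne_zero (α := F) (by rw [e] at hω; linear_combination hω - h2)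
  have hω21 : ω ^ 2 ≠ 1 := fun e => hω1 (by linear_combination ω * e.symm + h3)
  obtain ⟨c, hc⟩ : ∃ c : F, act C (ev F 3 0) = c • ev F 3 0 := by
    have hfix : act D (act C (ev F 3 0)) = (1 : F) • act C (ev F 3 0) := by
      rw [← act_mul, ← cD, act_mul, D0, one_smul]
    refine ⟨_, U.eq_smul_ev (w := act C (ev F 3 0)) (0 : Fin 3) fun j hj => ?_⟩
    fin_cases j
    · exact absurd rfl hj
    · exact U.eig_perp hfix D1 hωn (Ne.symm hω1)
    · exact U.eig_perp hfix D2 nω2 (Ne.symm hω21)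
  have hcc : ∀ k, k < 3 → act C (ev F 3 k) = c • ev F 3 k := by
    have e1 : act C (ev F 3 1) = c • ev F 3 1 := by
      rw [← p0, ← act_mul, cπ, act_mul, hc, act_smul]
    intro k hk
    interval_cases k
    · exact hc
    · exact e1
    · rw [← p1, ← act_mul, cπ, act_mul, e1, act_smul]
  have cg : C * g0 = g0 * C := by
    refine su_ext fun k hk => ?_
    interval_cases k <;>
      simp only [act_mul, hcc 0 (by norm_num), hcc 1 (by norm_num), hcc 2 (by norm_num), g00, g01, g02,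
        act_add, act_smul, smul_add, smul_smul, mul_comm c]
  have eX : X = g0 * C := by rw [hC, mul_inv_cancel_left]
  have hsq : g0 * g0 ∈ FB F 2 3 1 (1 + 2) := by
    rw [FB13_eq, mem_Fx]
    refine U.four_sq hF ⟨ω, fun _ => 1, fun _ => U.nm_one, g0, hω, hg0, ?_⟩
    refine Subtype.ext (Subtype.ext (Matrix.ext fun i j => ?_))
    simp [twist_coe]
  obtain ⟨a, ha⟩ := mem_range_embSU (N := 3) (m := 2) 1 (by norm_num) U hsq
  have hXX : X * X = g0 * g0 := by rw [hX, ← map_mul, ← ha, b1]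
  have hCC : C * C = 1 := by
    rw [eX] at hXX
    have e : g0 * g0 * (C * C) = g0 * g0 * 1 := by
      rw [mul_one]
      conv_rhs => rw [← hXX]
      calc g0 * g0 * (C * C) = g0 * (g0 * C) * C := by group
        _ = g0 * (C * g0) * C := by rw [← cg]
        _ = g0 * C * (g0 * C) := by group
    exact mul_left_cancel e
  have hc1 : c = 1 := by
    have e := congrArg (fun z => act z (ev F 3 0)) hCC
    simp only [act_mul, hc, act_smul, smul_smul, act_one] at e
    have h0 : ev F 3 0 ≠ 0 := fun e => by simpa [ev] using congrFun e ⟨0, by norm_num⟩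
    exact U.sq_one hF (smul_left_injective F h0 (by simpa using e))
  have hC1 : C = 1 := su_ext fun k hk => by rw [hcc k hk, hc1, one_smul, act_one]
  rw [eX, hC1, mul_one]

/-- An endomorphism fixing the blocks is the identity. -/
theorem fix_all (β : SU 3 F 2 →* SU 3 F 2)
    (b0 : ∀ a : SU 2 F 2, β (embSU 0 (by norm_num) U a) = embSU 0 (by norm_num) U a)
    (b1 : ∀ a : SU 2 F 2, β (embSU 1 (by norm_num) U a) = embSU 1 (by norm_num) U a) (A : SU 3 F 2) :
    β A = A := by
  have hS : MonoidHom.eqLocus β (MonoidHom.id _) = ⊤ := by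
    refine U.gen3 hF _ b0 b1 fun g hg => ?_
    obtain ⟨ω, d, hd, g0, hω, hg0, rfl⟩ := hg
    have hd0 : ∀ i, d i ≠ 0 := fun i e => by simpa [e, nm] using hd i
    have hd' : ∀ i, U.nm (d i)⁻¹ = 1 := fun i => by rw [U.nm_inv, hd, inv_one]
    set T := twist U (RingEquiv.refl F) d hd
    set T' := twist U (RingEquiv.refl F) (fun i => (d i)⁻¹) hd'
    have TT : ∀ x, T (T' x) = x := fun x => Subtype.ext (Subtype.ext (Matrix.ext fun i j => by
      simp only [T, T', twist_coe, RingEquiv.refl_apply]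
      field_simp [hd0 i, hd0 j]))
    have T'T : ∀ x, T' (T x) = x := fun x => Subtype.ext (Subtype.ext (Matrix.ext fun i j => by
      simp only [T, T', twist_coe, RingEquiv.refl_apply]
      field_simp [hd0 i, hd0 j]))
    have key : ∀ (o : ℕ) (ho : o + 2 ≤ 3),
        (∀ a : SU 2 F 2, β (embSU o ho U a) = embSU o ho U a) →
        ∀ a : SU 2 F 2, (T'.comp (β.comp T)) (embSU o ho U a) = embSU o ho U a := by
      intro o ho hb a
      obtain ⟨a', ha'⟩ := mem_range_embSU o ho U (twist_mem U (RingEquiv.refl F) d hd (embSU_mem o ho U a))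
      show T' (β (T _)) = _
      rw [← ha', hb, ha', T'T]
    have := U.fix_fourier hF (T'.comp (β.comp T)) (key 0 _ b0) (key 1 _ b1) hω hg0
    show β (T g0) = T g0
    conv_rhs => rw [← this]
    exact (TT _).symm
  exact (hS ▸ Subgroup.mem_top A : A ∈ MonoidHom.eqLocus β (MonoidHom.id _))

/-- An injective endomorphism preserving the blocks is a twist. -/
theorem exists_twist_two (β : SU 3 F 2 →* SU 3 F 2) (hβ : Function.Injective β)
    (h0 : ∀ a : SU 2 F 2, act (β (embSU 0 (by norm_num) U a)) (ev F 3 2) = ev F 3 2)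
    (h1 : ∀ a : SU 2 F 2, act (β (embSU 1 (by norm_num) U a)) (ev F 3 0) = ev F 3 0) :
    ∃ (τ : F ≃+* F) (d : Fin 3 → F) (hd : ∀ i, U.nm (d i) = 1), ∀ A, β A = twist U τ d hd A := by
  set ι0 : SU 2 F 2 →* SU 3 F 2 := embSU 0 (by norm_num) U
  set ι1 : SU 2 F 2 →* SU 3 F 2 := embSU 1 (by norm_num) U
  have i0 : Function.Injective ι0 := embSU_injective _ _ U
  have i1 : Function.Injective ι1 := embSU_injective _ _ U
  have m0 : ∀ a, ∃ b, ι0 b = β (ι0 a) := fun a => mem_range_embSU 0 (by norm_num) U (by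
    rw [FB02_eq]; exact h0 a)
  have m1 : ∀ a, ∃ b, ι1 b = β (ι1 a) := fun a => mem_range_embSU 1 (by norm_num) U (by
    rw [FB13_eq]; exact h1 a)
  choose f0 e0 using m0
  choose f1 e1 using m1
  have f0i : Function.Injective f0 := fun a b e => i0 (hβ (by rw [← e0, ← e0, e]))
  have f1i : Function.Injective f1 := fun a b e => i1 (hβ (by rw [← e1, ← e1, e]))
  let β0 : SU 2 F 2 ≃* SU 2 F 2 := MulEquiv.ofBijective
    (MonoidHom.mk' f0 fun a b => i0 (by rw [map_mul ι0 (f0 a), e0, e0, e0, map_mul, map_mul]))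
    ⟨f0i, Finite.surjective_of_injective f0i⟩
  let β1 : SU 2 F 2 ≃* SU 2 F 2 := MulEquiv.ofBijective
    (MonoidHom.mk' f1 fun a b => i1 (by rw [map_mul ι1 (f1 a), e1, e1, e1, map_mul, map_mul]))
    ⟨f1i, Finite.surjective_of_injective f1i⟩
  have E0 : ∀ a, β (ι0 a) = ι0 (β0 a) := fun a => (e0 a).symm
  have E1 : ∀ a, β (ι1 a) = ι1 (β1 a) := fun a => (e1 a).symm
  obtain ⟨ω, hω⟩ := U.exists_omega
  have n10 : U.nm (1 : F) + U.nm 0 = 1 := by rw [U.nm_one, U.nm_zero, add_zero]
  have hωn : U.nm ω = 1 := U.nm_ne_zero fun e => by simp [e] at hω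
  have hx : U.nm ω + U.nm 0 = 1 := by rw [hωn, U.nm_zero, add_zero]
  have hy : U.nm (0 : F) + U.nm 1 = 1 := by rw [U.nm_zero, U.nm_one, zero_add]
  have torus : ∀ (b : SU 2 F 2 ≃* SU 2 F 2) (A : SU 2 F 2), A.1.1 1 0 = 0 → (b A).1.1 1 0 = 0 := by
    intro b A hA
    obtain ⟨p, r, h, rfl⟩ := U.su2_surj A
    have hr : r = 0 := by simpa [su2_coe] using hA
    subst hr
    have hp : U.nm p = 1 := by rwa [U.nm_zero, add_zero] at h
    have hcube : U.su2 p 0 h * U.su2 p 0 h * U.su2 p 0 h = 1 := by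
      rw [U.su2_mul h h (U.su2_mul_prop h h), U.su2_mul (U.su2_mul_prop h h) h
        (U.su2_mul_prop (U.su2_mul_prop h h) h), ← U.su2_one n10]
      refine U.su2_eq ?_ (by simp)
      rw [U.nm_eq_cube] at hp
      simp; linear_combination hp
    obtain ⟨p', r', h', e⟩ := U.su2_surj (b (U.su2 p 0 h))
    have hc := congrArg b hcube
    rw [map_mul, map_mul, map_one, e] at hc
    rcases U.su2_cases hF p' r' h' with ⟨rfl, -⟩ | ⟨rfl, hr'⟩
    · rw [e]; simp [su2_coe]
    · exfalso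
      rw [U.su2_mul h' h' (U.su2_mul_prop h' h'), U.su2_mul (U.su2_mul_prop h' h') h'
        (U.su2_mul_prop (U.su2_mul_prop h' h') h'), ← U.su2_one n10] at hc
      have := (U.su2_inj hc).1
      simp at this
  obtain ⟨τ0, ν0, hν0, hent0⟩ := U.aut_torus_two hF β0 (torus β0)
  obtain ⟨τ1, ν1, hν1, hent1⟩ := U.aut_torus_two hF β1 (torus β1)
  have key0 : ∀ (a b : F) (h : U.nm a + U.nm b = 1), ∃ h', β0 (U.su2 a b h) = U.su2 (τ0 a) (ν0 * τ0 b) h' := by
    intro a b h
    obtain ⟨a', b', h', e⟩ := U.su2_surj (β0 (U.su2 a b h))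
    obtain ⟨x1, x2⟩ := hent0 (U.su2 a b h)
    rw [e] at x1 x2
    simp [su2_coe] at x1 x2
    subst x1; subst x2
    exact ⟨h', e⟩
  have key1 : ∀ (a b : F) (h : U.nm a + U.nm b = 1), ∃ h', β1 (U.su2 a b h) = U.su2 (τ1 a) (ν1 * τ1 b) h' := by
    intro a b h
    obtain ⟨a', b', h', e⟩ := U.su2_surj (β1 (U.su2 a b h))
    obtain ⟨x1, x2⟩ := hent1 (U.su2 a b h)
    rw [e] at x1 x2
    simp [su2_coe] at x1 x2
    subst x1; subst x2
    exact ⟨h', e⟩
  have hτn : ∀ (τ : F ≃+* F) x, U.nm (τ x) = τ (U.nm x) := fun τ x => by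
    simp only [UF.nm, U.hσ, ← map_pow, ← map_mul]
  have hj : U.nm (τ0 ω) + U.nm 0 = 1 := by rw [hτn, hωn, map_one, U.nm_zero, add_zero]
  have E0x : β (ι0 (U.su2 ω 0 hx)) = ι0 (U.su2 (τ0 ω) 0 hj) := by
    obtain ⟨h', e⟩ := key0 ω 0 hx
    rw [E0, e]; exact congrArg ι0 (U.su2_eq rfl (by simp))
  have hτω : τ1 ω = τ0 ω := by
    have hp : U.nm (0 : F) + U.nm (ω * 1) = 1 := by rw [mul_one, hωn, U.nm_zero, zero_add]
    have r := congrArg β (U.rot_rel hx hy hp)
    change β (ι0 _ * ι1 _) = β (ι1 _ * ι0 _) at r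
    obtain ⟨q1, k1⟩ := key1 0 1 hy
    obtain ⟨q2, k2⟩ := key1 0 (ω * 1) hp
    rw [map_mul, map_mul, E0x, E1, E1, k1, k2] at r
    have p2 : U.nm (τ1 0) + U.nm (τ0 ω * (ν1 * τ1 1)) = 1 := by
      simp [U.nm_zero, U.nm_mul, hτn, hωn, hν1]
    have r' := (U.su2_inj (i1 (mul_right_cancel ((U.rot_rel hj q1 p2).symm.trans r)))).2
    simp only [map_one, mul_one] at r'
    have hν10 : ν1 ≠ 0 := fun e => by rw [e, U.nm_zero] at hν1; exact zero_ne_one hν1
    exact mul_left_cancel₀ hν10 (by linear_combination -r')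
  have hτ : τ1 = τ0 := by
    refine RingEquiv.ext fun x => ?_
    by_cases h : x = 0
    · simp [h]
    · rcases U.nm_one_cases hω (U.nm_ne_zero h) with rfl | rfl | rfl <;> simp [hτω]
  subst hτ
  let d : Fin 3 → F := ![1, ν0, ν0 * ν1]
  have hd : ∀ k, U.nm (d k) = 1 := fun k => by fin_cases k <;> simp [d, U.nm_one, U.nm_mul, hν0, hν1]
  have hν00 : ν0 ≠ 0 := fun e => by rw [e, U.nm_zero] at hν0; exact zero_ne_one hν0
  have blockeq : ∀ (o : ℕ) (ho : o + 2 ≤ 3) (ν c : F), c ≠ 0 → U.nm ν = 1 →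
      d ⟨o, by omega⟩ = c → d ⟨o + 1, by omega⟩ = c * ν → ∀ a b (h : U.nm a + U.nm b = 1) h',
        twist U τ1 d hd (embSU o ho U (U.su2 a b h)) = embSU o ho U (U.su2 (τ1 a) (ν * τ1 b) h') := by
    intro o ho ν c hc hν d0 d1 a b h h'
    rw [U.twist_embSU o ho τ1 d hd ![1, ν] (fun k => by fin_cases k <;> simp [U.nm_one, hν]) c hc
      (fun k => by fin_cases k <;> simp [d0, d1]) _,
      U.twist_su2 τ1 ![1, ν] _ a b h (by simpa using h')]
    exact congrArg _ (U.su2_eq rfl (by simp))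
  have B0 : ∀ a : SU 2 F 2, β (ι0 a) = twist U τ1 d hd (ι0 a) := fun a => by
    obtain ⟨p, r, h, rfl⟩ := U.su2_surj a
    obtain ⟨h', e⟩ := key0 p r h
    rw [E0, e, blockeq 0 (by norm_num) ν0 1 one_ne_zero hν0 (by simp [d]) (by simp [d]) p r h h']
  have B1 : ∀ a : SU 2 F 2, β (ι1 a) = twist U τ1 d hd (ι1 a) := fun a => by
    obtain ⟨p, r, h, rfl⟩ := U.su2_surj a
    obtain ⟨h', e⟩ := key1 p r h
    rw [E1, e, blockeq 1 (by norm_num) ν1 ν0 hν00 hν1 (by simp [d]) (by simp [d]) p r h h']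
  let T := MulEquiv.ofBijective (twist U τ1 d hd)
    ⟨twist_injective U τ1 d hd, Finite.surjective_of_injective (twist_injective U τ1 d hd)⟩
  have := U.fix_all hF (T.symm.toMonoidHom.comp β)
    (fun a => by show T.symm (β (ι0 a)) = ι0 a; rw [B0]; exact T.symm_apply_apply _)
    (fun a => by show T.symm (β (ι1 a)) = ι1 a; rw [B1]; exact T.symm_apply_apply _)
  refine ⟨τ1, d, hd, fun A => ?_⟩
  have e : β A = T A := (MulEquiv.symm_apply_eq T).1 (this A)
  exact e

end UF

end CfsgLib.Chev.CT.Phan
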