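/-
A window of length four over four elements: two agreeing copies of `SU 3` extend to `SU 4`.
-/
import Cfsg.Agent.Lib.Chev.CT.Phan.Two.Twist
import Cfsg.Agent.Lib.Classical.HermOrder

set_option autoImplicit false

namespace CfsgLib.Chev.CT.Phan

open Matrix Cfsg

universe u v

variable {F : Type u} [Field F] {G : Type v} [Group G]

namespace UF

variable (U : UF F 2) [Fintype F] (hF : Fintype.card F = 4)
include U

/-- The diagonal and antidiagonal generators of the two blocks of `SU 3`, and their relations. -/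
theorem exists_rels {ω : F} (hω : ω ^ 2 + ω + 1 = 0) (hx : U.nm ω + U.nm 0 = 1)
    (hy : U.nm (0 : F) + U.nm 1 = 1) (h2 : (2 : F) = 0) :
    let t0 : SU 3 F 2 := embSU 0 (by norm_num) U (U.su2 ω 0 hx)
    let t1 : SU 3 F 2 := embSU 1 (by norm_num) U (U.su2 ω 0 hx)
    let y0 : SU 3 F 2 := embSU 0 (by norm_num) U (U.su2 0 1 hy)
    let y1 : SU 3 F 2 := embSU 1 (by norm_num) U (U.su2 0 1 hy)
    (t0 * t1 = t1 * t0 ∧ t0 ^ 3 = 1 ∧ t1 ^ 3 = 1 ∧ y0 * y0 = 1 ∧ y1 * y1 = 1) ∧
      (t0 * y0 * t0 = y0 ∧ t1 * y0 = y0 * (t0 * t1) ∧ t1 * y1 * t1 = y1 ∧ t0 * y1 = y1 * (t0 * t1)) ∧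
      (∀ v, act (t0 * t1⁻¹) v = ω • v) := by
  intro t0 t1 y0 y1
  have hσω : U.σ ω = ω ^ 2 := U.hσ ω
  have h3 : ω ^ 3 = 1 := by linear_combination (ω - 1) * hω
  have hn : ∀ x : F, -x = x := fun x => by linear_combination (-x) * h2
  have a0 : act t0 (ev F 3 0) = ω • ev F 3 0 := by simp only [t0]; rw [U.su2_act_ev0]; simp
  have a1 : act t0 (ev F 3 1) = ω ^ 2 • ev F 3 1 := by
    simp only [t0]; rw [show ev F 3 1 = ev F 3 (0 + 1) from rfl, U.su2_act_ev1]; simp [hσω]
  have a2 : act t0 (ev F 3 2) = ev F 3 2 := embSU_mem 0 (by norm_num) U _ 2 (by norm_num) (by omega)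
  have b0 : act t1 (ev F 3 0) = ev F 3 0 := embSU_mem 1 (by norm_num) U _ 0 (by norm_num) (by omega)
  have b1 : act t1 (ev F 3 1) = ω • ev F 3 1 := by simp only [t1]; rw [U.su2_act_ev0]; simp
  have b2 : act t1 (ev F 3 2) = ω ^ 2 • ev F 3 2 := by
    simp only [t1]; rw [show ev F 3 2 = ev F 3 (1 + 1) from rfl, U.su2_act_ev1]; simp [hσω]
  have c0 : act y0 (ev F 3 0) = ev F 3 1 := by simp only [y0]; rw [U.su2_act_ev0]; simp
  have c1 : act y0 (ev F 3 1) = ev F 3 0 := by
    simp only [y0]; rw [show ev F 3 1 = ev F 3 (0 + 1) from rfl, U.su2_act_ev1]; simp [hn]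
  have c2 : act y0 (ev F 3 2) = ev F 3 2 := embSU_mem 0 (by norm_num) U _ 2 (by norm_num) (by omega)
  have d0 : act y1 (ev F 3 0) = ev F 3 0 := embSU_mem 1 (by norm_num) U _ 0 (by norm_num) (by omega)
  have d1 : act y1 (ev F 3 1) = ev F 3 2 := by simp only [y1]; rw [U.su2_act_ev0]; simp
  have d2 : act y1 (ev F 3 2) = ev F 3 1 := by
    simp only [y1]; rw [show ev F 3 2 = ev F 3 (1 + 1) from rfl, U.su2_act_ev1]; simp [hn]
  have fin : ∀ {g h : SU 3 F 2}, act g (ev F 3 0) = act h (ev F 3 0) → act g (ev F 3 1) = act h (ev F 3 1) →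
      act g (ev F 3 2) = act h (ev F 3 2) → g = h := fun e0 e1 e2 => su_ext fun k hk => by
    interval_cases k
    · exact e0
    · exact e1
    · exact e2
  have p : ∀ {a b : F} {v : Fin 3 → F}, a = b → a • v = b • v := fun e => by rw [e]
  have one : ∀ {a : F} {v : Fin 3 → F}, a = 1 → a • v = v := fun e => by rw [e, one_smul]
  refine ⟨⟨?_, ?_, ?_, ?_, ?_⟩, ⟨?_, ?_, ?_, ?_⟩, ?_⟩
  · apply fin <;> simp only [act_mul, act_smul, a0, a1, a2, b0, b1, b2, smul_smul, mul_comm]
  · rw [pow_succ, pow_two]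
    apply fin <;> simp only [act_mul, act_smul, act_one, a0, a1, a2, smul_smul]
    · exact one (by linear_combination h3)
    · exact one (by linear_combination (ω ^ 3 + 1) * h3)
  · rw [pow_succ, pow_two]
    apply fin <;> simp only [act_mul, act_smul, act_one, b0, b1, b2, smul_smul]
    · exact one (by linear_combination h3)
    · exact one (by linear_combination (ω ^ 3 + 1) * h3)
  · apply fin <;> simp only [act_mul, act_one, c0, c1, c2]
  · apply fin <;> simp only [act_mul, act_one, d0, d1, d2]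
  · apply fin <;> simp only [act_mul, act_smul, a0, a1, a2, c0, c1, c2, smul_smul]
    · exact one (by linear_combination h3)
    · exact one (by linear_combination h3)
  · apply fin <;> simp only [act_mul, act_smul, a0, a1, a2, b0, b1, b2, c0, c1, c2, smul_smul]
    exact (one (by linear_combination h3)).symm
  · apply fin <;> simp only [act_mul, act_smul, b0, b1, b2, d0, d1, d2, smul_smul]
    · exact one (by linear_combination h3)
    · exact one (by linear_combination h3)
  · apply fin <;> simp only [act_mul, act_smul, a0, a1, a2, b0, b1, b2, d0, d1, d2, smul_smul]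
    exact (one (by linear_combination h3)).symm
  · intro v
    have b0' : act t1⁻¹ (ev F 3 0) = ev F 3 0 := act_inv_eq b0
    have b1' : act t1⁻¹ (ev F 3 1) = ω ^ 2 • ev F 3 1 :=
      act_inv_eq (by rw [act_smul, b1, smul_smul]; exact one (by linear_combination h3))
    have b2' : act t1⁻¹ (ev F 3 2) = ω • ev F 3 2 :=
      act_inv_eq (by rw [act_smul, b2, smul_smul]; exact one (by linear_combination h3))
    have e : v = v 0 • ev F 3 0 + v 1 • ev F 3 1 + v 2 • ev F 3 2 := by
      funext r; fin_cases r <;> simp [ev]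
    rw [e]
    simp only [act_mul, act_add, act_smul, a0, a1, a2, b0', b1', b2', smul_add, smul_smul]
    match_scalars
    · ring
    · linear_combination v 1 * ω * h3
    · ring

include hF

/-- An involution multiplies a vector it maps to a multiple by one. -/
theorem inv_fix {N : ℕ} {Y : SU N F 2} (hY : Y * Y = 1) {v : Fin N → F} (hv : v ≠ 0) {c : F}
    (h : act Y v = c • v) : act Y v = v := by
  have e : act Y (act Y v) = v := by rw [← act_mul, hY, act_one]
  rw [h, act_smul, h, smul_smul] at e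
  rw [h, U.sq_one hF (c := c) (smul_left_injective F hv (by simpa using e)), one_smul]

/-- A copy of `SU 3` in `SU 4` is conjugate to a twist of the standard one. -/
theorem exists_std_two (h : SU 3 F 2 →* SU 4 F 2) (hi : Function.Injective h) :
    ∃ (γ : SU 4 F 2) (τ : F ≃+* F) (d : Fin 3 → F) (hd : ∀ i, U.nm (d i) = 1),
      ∀ a, h a = γ * embSU 0 (by norm_num) U (twist U τ d hd a) * γ⁻¹ := by
  have h2 := U.two_eq_zero hF
  obtain ⟨ω, hω⟩ := U.exists_omega
  have hωn : U.nm ω = 1 := U.nm_ne_zero fun e => by simp [e] at hω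
  have hω3 : ω ^ 3 = 1 := by linear_combination (ω - 1) * hω
  have hω1 : ω ≠ 1 := fun e => one_ne_zero (α := F) (by rw [e] at hω; linear_combination hω - h2)
  have hω21 : ω ^ 2 ≠ 1 := fun e => hω1 (by linear_combination ω * e.symm + hω3)
  have hx : U.nm ω + U.nm 0 = 1 := by rw [hωn, U.nm_zero, add_zero]
  have hy : U.nm (0 : F) + U.nm 1 = 1 := by rw [U.nm_zero, U.nm_one, zero_add]
  obtain ⟨⟨r01, r0c, r1c, r0y, r1y⟩, ⟨rA, rB, rC, rD⟩, rz⟩ := U.exists_rels hω hx hy h2
  set ι0 : SU 2 F 2 →* SU 3 F 2 := embSU 0 (by norm_num) U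
  set ι1 : SU 2 F 2 →* SU 3 F 2 := embSU 1 (by norm_num) U
  set xx := U.su2 ω 0 hx
  set yy := U.su2 0 1 hy
  set T0 := h (ι0 xx) with hT0
  set T1 := h (ι1 xx) with hT1
  set Y0 := h (ι0 yy) with hY0
  set Y1 := h (ι1 yy) with hY1
  set Z := T0 * T1⁻¹ with hZd
  have c01 : T0 * T1 = T1 * T0 := by rw [hT0, hT1, ← map_mul, ← map_mul, r01]
  have T03 : T0 ^ 3 = 1 := by rw [hT0, ← map_pow, r0c, map_one]
  have T13 : T1 ^ 3 = 1 := by rw [hT1, ← map_pow, r1c, map_one]
  have cZ : Z * T0 = T0 * Z := ((Commute.refl T0).mul_left (Commute.inv_left c01.symm)).eq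
  have Z3 : Z ^ 3 = 1 := by
    rw [hZd, (Commute.inv_right c01).mul_pow, inv_pow, T03, T13, inv_one, mul_one]
  have Zne : Z ≠ 1 := by
    intro e
    have e' : ι0 xx * (ι1 xx)⁻¹ = 1 := hi (by rw [map_mul, map_inv, map_one]; exact e)
    have := rz (ev F 3 0)
    rw [e', act_one] at this
    have := congrFun this ⟨0, by norm_num⟩
    simp [ev] at this
    exact hω1 this.symm
  have Zall : ∀ a, Z * h a = h a * Z := by
    intro a
    rw [hZd, hT0, hT1, ← map_inv h, ← map_mul h, ← map_mul h, ← map_mul h]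
    refine congrArg h (su_ext fun k _ => ?_)
    rw [act_mul, rz, act_mul, rz, act_smul]
  have T1eq : T1 = Z⁻¹ * T0 := by rw [hZd]; group
  obtain ⟨l, hln, hl1, u, hu, hZu⟩ :
      ∃ l : F, U.nm l = 1 ∧ l ≠ 1 ∧ ∃ u : Fin 4 → F, u ≠ 0 ∧ act Z u = l • u := by
    obtain ⟨v, hv⟩ : ∃ v, act Z v ≠ v := by
      by_contra hne
      push Not at hne
      exact Zne (su_ext fun k _ => by rw [hne, act_one])
    set w := act Z v - v with hw
    have hw0 : w ≠ 0 := sub_ne_zero.2 hv
    have h1 : eigPart Z 1 w = 0 := by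
      have e3 : act Z (act Z (act Z v)) = v := by
        rw [← act_mul, ← act_mul, show Z * Z * Z = Z ^ 3 by rw [pow_succ, pow_two], Z3, act_one]
      simp only [eigPart, hw, act_sub, one_mul, one_smul, e3]
      abel
    have hs := U.eigPart_sum hF Z hω w
    rw [h1, zero_add] at hs
    by_cases ha : eigPart Z ω w = 0
    · rw [ha, zero_add] at hs
      exact ⟨ω ^ 2, by rw [sq, U.nm_mul, hωn, one_mul], hω21, _, by rw [hs]; exact hw0,
        eigPart_act Z3 (by linear_combination (ω ^ 3 + 1) * hω3) w⟩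
    · exact ⟨ω, hωn, hω1, _, ha, eigPart_act Z3 hω3 w⟩
  have hl3 : l ^ 3 = 1 := by rw [← U.nm_eq_cube]; exact hln
  have hl0 : l ≠ 0 := fun e => by simp [e] at hl3
  have hlq : l ^ 2 + l + 1 = 0 :=
    (mul_eq_zero.1 (show (l - 1) * (l ^ 2 + l + 1) = 0 by linear_combination hl3)).resolve_left (sub_ne_zero.2 hl1)
  have hl21 : l ^ 2 ≠ 1 := fun e => hl1 (by linear_combination l * e.symm + hl3)
  have hl2n : U.nm (l ^ 2) = 1 := by rw [sq, U.nm_mul, hln, one_mul]
  have n3 : ∀ {a : F}, a ^ 3 = 1 → U.nm a = 1 := fun e => by rw [U.nm_eq_cube]; exact e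
  let P : F → Prop := fun a => a ^ 3 = 1 ∧ ∃ v : Fin 4 → F, v ≠ 0 ∧ act T0 v = a • v ∧ act Z v = l • v
  have hT1v : ∀ {a : F} {v : Fin 4 → F}, act T0 v = a • v → act Z v = l • v →
      act T1 v = (a * l ^ 2) • v := fun {a v} e e' => by
    have : act Z⁻¹ v = l ^ 2 • v := act_inv_eq (by
      rw [act_smul, e', smul_smul, show l ^ 2 * l = 1 by linear_combination hl3, one_smul])
    rw [T1eq, act_mul, e, act_smul, this, smul_smul]
  have step0 : ∀ a, P a → P (a ^ 2) := by
    rintro a ⟨ha, v, hv, e, e'⟩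
    refine ⟨by linear_combination (a ^ 3 + 1) * ha, act Y0 v, fun e0 => hv (by rw [← act_inv_act Y0 v, e0, act_zero]), ?_,
      by rw [← act_mul, Zall, act_mul, e', act_smul]⟩
    have he : T0 * Y0 = Y0 * T0⁻¹ := by
      rw [eq_mul_inv_iff_mul_eq, hT0, hY0, ← map_mul h, ← map_mul h, rA]
    have : act T0⁻¹ v = a ^ 2 • v := act_inv_eq (by
      rw [act_smul, e, smul_smul, show a ^ 2 * a = 1 by linear_combination ha, one_smul])
    rw [← act_mul, he, act_mul, this, act_smul]
  have step1 : ∀ a, P a → P (a ^ 2 * l ^ 2) := by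
    rintro a ⟨ha, v, hv, e, e'⟩
    refine ⟨by linear_combination (a ^ 3 + 1) * (l ^ 6) * ha + (l ^ 3 + 1) * hl3, act Y1 v,
      fun e0 => hv (by rw [← act_inv_act Y1 v, e0, act_zero]), ?_,
      by rw [← act_mul, Zall, act_mul, e', act_smul]⟩
    have he : T0 * Y1 = Y1 * (T0 * T1) := by rw [hT0, hT1, hY1, ← map_mul h, ← map_mul h, ← map_mul h, rD]
    rw [← act_mul, he, act_mul, act_mul, hT1v e e', act_smul, e, act_smul, act_smul, smul_smul]
    congr 1; ring
  have P0 : ∃ a, P a := by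
    have hs := U.eigPart_sum hF T0 hω u
    have h1 : ∀ {a : F}, a ^ 3 = 1 → eigPart T0 a u ≠ 0 → P a := fun ha hne =>
      ⟨ha, _, hne, eigPart_act T03 ha u, eigPart_comm cZ hZu⟩
    by_cases a1 : eigPart T0 1 u = 0
    · by_cases a2 : eigPart T0 ω u = 0
      · refine ⟨_, h1 (a := ω ^ 2) (by linear_combination (ω ^ 3 + 1) * hω3) ?_⟩
        rw [a1, a2, zero_add, zero_add] at hs
        rw [hs]; exact hu
      · exact ⟨_, h1 hω3 a2⟩
    · exact ⟨_, h1 (one_pow 3) a1⟩
  have e4 : (l ^ 2) ^ 2 = l := by linear_combination l * hl3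
  obtain ⟨P1, Pl, Pl2⟩ : P 1 ∧ P l ∧ P (l ^ 2) := by
    obtain ⟨a, ha⟩ := P0
    have hcase : a = 1 ∨ a = l ∨ a = l ^ 2 := U.nm_one_cases hlq (n3 ha.1)
    rcases hcase with rfl | rfl | rfl
    · have h' := step1 1 ha
      rw [one_pow, one_mul] at h'
      have h'' := step0 _ h'
      rw [e4] at h''
      exact ⟨ha, h'', h'⟩
    · have h' := step0 _ ha
      have h'' := step1 _ h'
      rw [e4, show a * a ^ 2 = 1 by linear_combination hl3] at h''
      exact ⟨h'', ha, h'⟩
    · have h' := step0 _ ha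
      rw [e4] at h'
      have h'' := step1 _ ha
      rw [e4, show l * l ^ 2 = 1 by linear_combination hl3] at h''
      exact ⟨h'', h', ha⟩
  have unit : ∀ {a : F}, P a → ∃ x, hf 2 x x = 1 ∧ act T0 x = a • x ∧ act Z x = l • x := by
    rintro a ⟨ha, v, hv, e, e'⟩
    exact U.exists_unit_eig hF cZ T03 Z3 (n3 ha) hln hv e e'
  obtain ⟨f0, u0, p0, z0⟩ := unit Pl
  obtain ⟨f1, u1, p1, z1⟩ := unit Pl2
  obtain ⟨f2, u2, p2, z2⟩ := unit P1
  have hne2 : l ≠ l ^ 2 := fun e => hl1 (mul_left_cancel₀ hl0 (by linear_combination -e))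
  have o01 : hf 2 f0 f1 = 0 := U.eig_perp p0 p1 hl2n hne2
  have o02 : hf 2 f0 f2 = 0 := U.eig_perp p0 p2 U.nm_one hl1
  have o12 : hf 2 f1 f2 = 0 := U.eig_perp p1 p2 U.nm_one hl21
  have horth : ∀ k j : Fin 3, hf 2 (![f0, f1, f2] k) (![f0, f1, f2] j) = if k = j then 1 else 0 := by
    intro k j
    fin_cases k <;> fin_cases j <;>
      simp [u0, u1, u2, o01, o02, o12, U.swap_eq_zero o01, U.swap_eq_zero o02, U.swap_eq_zero o12]
  obtain ⟨f3, u3, hf3⟩ := U.exists_fourth_four _ horth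
  have o30 : hf 2 f3 f0 = 0 := hf3 0
  have o31 : hf 2 f3 f1 = 0 := hf3 1
  have o32 : hf 2 f3 f2 = 0 := hf3 2
  obtain ⟨γ, hγ⟩ := U.exists_frame_four ![f0, f1, f2, f3] (by
    intro k j
    fin_cases k <;> fin_cases j <;>
      simp [u0, u1, u2, u3, o01, o02, o12, o30, o31, o32, U.swap_eq_zero o01, U.swap_eq_zero o02,
        U.swap_eq_zero o12, U.swap_eq_zero o30, U.swap_eq_zero o31, U.swap_eq_zero o32])
  set h' : SU 3 F 2 →* SU 4 F 2 := (MulAut.conj γ⁻¹).toMonoidHom.comp h with hh'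
  have h'e : ∀ a, h' a = γ⁻¹ * h a * γ := fun a => by simp [h', MulAut.conj_apply]
  have tr : ∀ (X : SU 4 F 2) (k : Fin 4) (a : F), act X (![f0, f1, f2, f3] k) = a • ![f0, f1, f2, f3] k →
      act (γ⁻¹ * X * γ) (ev F 4 (k : ℕ)) = a • ev F 4 (k : ℕ) := by
    intro X k a e
    obtain ⟨c, -, ec⟩ := hγ k
    rw [act_mul, act_mul, ec, act_smul, e, smul_comm, act_smul, ← ec, act_inv_act]
  set Z' := γ⁻¹ * Z * γ with hZ'
  set T0' := h' (ι0 xx) with hT0'
  set T1' := h' (ι1 xx) with hT1'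
  have hZ'e : Z' = T0' * T1'⁻¹ := by simp only [Z', T0', T1', h'e, Z, T0, T1]; group
  have z'0 : act Z' (ev F 4 0) = l • ev F 4 0 := tr Z 0 l (by simpa using z0)
  have z'1 : act Z' (ev F 4 1) = l • ev F 4 1 := tr Z 1 l (by simpa using z1)
  have z'2 : act Z' (ev F 4 2) = l • ev F 4 2 := tr Z 2 l (by simpa using z2)
  have t'0 : act T0' (ev F 4 0) = l • ev F 4 0 := by rw [hT0', h'e]; exact tr T0 0 l (by simpa using p0)
  have t'1 : act T0' (ev F 4 1) = l ^ 2 • ev F 4 1 := by
    rw [hT0', h'e]; exact tr T0 1 (l ^ 2) (by simpa using p1)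
  have t'2 : act T0' (ev F 4 2) = ev F 4 2 := by
    rw [hT0', h'e]; exact (tr T0 2 1 (by simpa using p2)).trans (one_smul F _)
  have ne3 : ev F 4 3 ≠ 0 := fun e => by simpa [ev] using congrFun e ⟨3, by norm_num⟩
  have perp3 : ∀ {w : Fin 4 → F}, hf 2 w (ev F 4 0) = 0 → hf 2 w (ev F 4 1) = 0 → hf 2 w (ev F 4 2) = 0 →
      w = w 3 • ev F 4 3 := fun {w} e0 e1 e2 => U.eq_smul_ev (3 : Fin 4) fun j hj => by
    fin_cases j
    · exact e0
    · exact e1
    · exact e2
    · exact absurd rfl hj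
  -- the image of the fourth vector under an element with those eigenvectors
  have diag3 : ∀ {X : SU 4 F 2} {a b c : F}, act X (ev F 4 0) = a • ev F 4 0 →
      act X (ev F 4 1) = b • ev F 4 1 → act X (ev F 4 2) = c • ev F 4 2 → a ≠ 0 → b ≠ 0 → c ≠ 0 →
      a * b * c = 1 → act X (ev F 4 3) = ev F 4 3 := by
    intro X a b c ea eb ec ha hb hc habc
    have orth : ∀ {k : ℕ} {a : F}, act X (ev F 4 k) = a • ev F 4 k → a ≠ 0 → k < 3 →
        hf 2 (act X (ev F 4 3)) (ev F 4 k) = 0 := by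
      intro k a e ha hk
      have := hf_act X (ev F 4 3) (ev F 4 k)
      rw [e, U.smul_r, U.ev_ne (by norm_num) (by omega) (by omega)] at this
      exact (mul_eq_zero.1 this).resolve_left ((map_ne_zero U.σ).2 ha)
    have e3 := perp3 (orth ea ha (by norm_num)) (orth eb hb (by norm_num)) (orth ec hc (by norm_num))
    have hdet := U.det_diag (g := X) (c := ![a, b, c, act X (ev F 4 3) 3]) fun k => by
      fin_cases k
      · simpa using ea
      · simpa using eb
      · simpa using ec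
      · simpa using e3
    simp [Fin.prod_univ_four, habc] at hdet
    rw [e3, hdet, one_smul]
  have z'3 : act Z' (ev F 4 3) = ev F 4 3 := diag3 z'0 z'1 z'2 hl0 hl0 hl0 (by linear_combination hl3)
  have t'3 : act T0' (ev F 4 3) = ev F 4 3 :=
    diag3 t'0 t'1 (c := 1) (by rw [one_smul]; exact t'2) hl0 (pow_ne_zero 2 hl0) one_ne_zero
      (by linear_combination hl3)
  have e1eq : T1' = Z'⁻¹ * T0' := by rw [hZ'e]; group
  have w'0 : act T1' (ev F 4 0) = ev F 4 0 := by
    rw [e1eq, act_mul, t'0]; exact act_inv_eq (by rw [z'0])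
  have iZ : ∀ {k : ℕ}, act Z' (ev F 4 k) = l • ev F 4 k → act Z'⁻¹ (ev F 4 k) = l ^ 2 • ev F 4 k :=
    fun e => act_inv_eq (by rw [act_smul, e, smul_smul, show l ^ 2 * l = 1 by linear_combination hl3, one_smul])
  have w'1 : act T1' (ev F 4 1) = l • ev F 4 1 := by
    rw [e1eq, act_mul, t'1, act_smul, iZ z'1, smul_smul, ← sq, e4]
  have w'2 : act T1' (ev F 4 2) = l ^ 2 • ev F 4 2 := by rw [e1eq, act_mul, t'2, iZ z'2]
  have w'3 : act T1' (ev F 4 3) = ev F 4 3 := by rw [e1eq, act_mul, t'3]; exact act_inv_eq z'3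
  have Z'all : ∀ a, Z' * h' a = h' a * Z' := fun a => by
    rw [h'e]
    calc Z' * (γ⁻¹ * h a * γ) = γ⁻¹ * (Z * h a) * γ := by rw [hZ']; group
      _ = γ⁻¹ * (h a * Z) * γ := by rw [Zall]
      _ = _ := by rw [hZ']; group
  have hline : ∀ a, ∃ c : F, act (h' a) (ev F 4 3) = c • ev F 4 3 := by
    intro a
    have hz : act Z' (act (h' a) (ev F 4 3)) = (1 : F) • act (h' a) (ev F 4 3) := by
      rw [← act_mul, Z'all, act_mul, z'3, one_smul]
    exact ⟨_, perp3 (U.eig_perp hz z'0 hln (Ne.symm hl1)) (U.eig_perp hz z'1 hln (Ne.symm hl1))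
      (U.eig_perp hz z'2 hln (Ne.symm hl1))⟩
  have sq0 : h' (ι0 yy) * h' (ι0 yy) = 1 := by rw [← map_mul, r0y, map_one]
  have sq1 : h' (ι1 yy) * h' (ι1 yy) = 1 := by rw [← map_mul, r1y, map_one]
  have f30 : ∀ a, act (h' (ι0 a)) (ev F 4 3) = ev F 4 3 := by
    have : (Fx F 2 4 (ev F 4 3)).comap (h'.comp ι0) = ⊤ := by
      refine U.su2_gen hF hω _ (fun _ => t'3) fun _ => ?_
      obtain ⟨c, hc⟩ := hline (ι0 yy)
      exact U.inv_fix hF sq0 ne3 hc
    intro a; exact (this ▸ Subgroup.mem_top a : a ∈ (Fx F 2 4 (ev F 4 3)).comap (h'.comp ι0))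
  have f31 : ∀ a, act (h' (ι1 a)) (ev F 4 3) = ev F 4 3 := by
    have : (Fx F 2 4 (ev F 4 3)).comap (h'.comp ι1) = ⊤ := by
      refine U.su2_gen hF hω _ (fun _ => w'3) fun _ => ?_
      obtain ⟨c, hc⟩ := hline (ι1 yy)
      exact U.inv_fix hF sq1 ne3 hc
    intro a; exact (this ▸ Subgroup.mem_top a : a ∈ (Fx F 2 4 (ev F 4 3)).comap (h'.comp ι1))
  have f3 : ∀ a, act (h' a) (ev F 4 3) = ev F 4 3 := U.line_fix hF h' ne3 hline f30 f31
  have hb : ∀ a, ∃ b : SU 3 F 2, embSU 0 (by norm_num) U b = h' a := fun a =>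
    mem_range_embSU 0 (by norm_num) U (m := 3) (fun k hk hk' => by
      obtain rfl : k = 3 := by omega
      exact f3 a)
  choose β eβ using hb
  have iE : Function.Injective (embSU (F := F) (q := 2) (N := 4) (m := 3) 0 (by norm_num) U) :=
    embSU_injective _ _ U
  let βh : SU 3 F 2 →* SU 3 F 2 := MonoidHom.mk' β fun a b => iE (by rw [map_mul, eβ, eβ, eβ, map_mul])
  have h'i : Function.Injective h' := (MulAut.conj γ⁻¹).injective.comp hi
  have hβi : Function.Injective βh := fun a b e => h'i (by rw [← eβ, ← eβ]; exact congrArg _ e)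
  have ne0 : ev F 4 0 ≠ 0 := fun e => by simpa [ev] using congrFun e ⟨0, by norm_num⟩
  have ne2 : ev F 4 2 ≠ 0 := fun e => by simpa [ev] using congrFun e ⟨2, by norm_num⟩
  have g20 : ∀ a, act (h' (ι0 a)) (ev F 4 2) = ev F 4 2 := by
    have : (Fx F 2 4 (ev F 4 2)).comap (h'.comp ι0) = ⊤ := by
      refine U.su2_gen hF hω _ (fun _ => t'2) fun _ => ?_
      have he : T0' * h' (ι0 yy) * T0' = h' (ι0 yy) := by
        rw [hT0', ← map_mul, ← map_mul]; exact congrArg h' rA
      set w := act (h' (ι0 yy)) (ev F 4 2) with hw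
      have hTw : act T0' w = (1 : F) • w := by
        rw [one_smul, hw, ← act_mul]
        conv_rhs => rw [← he]
        rw [act_mul _ T0', t'2]
      have q3 : hf 2 w (ev F 4 3) = 0 := by
        rw [← f30 yy, hw, hf_act, U.ev_ne (by norm_num) (by norm_num) (by norm_num)]
      have := U.eq_smul_ev (w := w) (2 : Fin 4) fun j hj => by
        fin_cases j
        · exact U.eig_perp hTw t'0 hln (Ne.symm hl1)
        · exact U.eig_perp hTw t'1 hl2n (Ne.symm hl21)
        · exact absurd rfl hj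
        · exact q3
      exact U.inv_fix hF sq0 ne2 this
    intro a; exact (this ▸ Subgroup.mem_top a : a ∈ (Fx F 2 4 (ev F 4 2)).comap (h'.comp ι0))
  have g01 : ∀ a, act (h' (ι1 a)) (ev F 4 0) = ev F 4 0 := by
    have : (Fx F 2 4 (ev F 4 0)).comap (h'.comp ι1) = ⊤ := by
      refine U.su2_gen hF hω _ (fun _ => w'0) fun _ => ?_
      have he : T1' * h' (ι1 yy) * T1' = h' (ι1 yy) := by
        rw [hT1', ← map_mul, ← map_mul]; exact congrArg h' rC
      set w := act (h' (ι1 yy)) (ev F 4 0) with hw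
      have hTw : act T1' w = (1 : F) • w := by
        rw [one_smul, hw, ← act_mul]
        conv_rhs => rw [← he]
        rw [act_mul _ T1', w'0]
      have q3 : hf 2 w (ev F 4 3) = 0 := by
        rw [← f31 yy, hw, hf_act, U.ev_ne (by norm_num) (by norm_num) (by norm_num)]
      have := U.eq_smul_ev (w := w) (0 : Fin 4) fun j hj => by
        fin_cases j
        · exact absurd rfl hj
        · exact U.eig_perp hTw w'1 hln (Ne.symm hl1)
        · exact U.eig_perp hTw w'2 hl2n (Ne.symm hl21)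
        · exact q3
      exact U.inv_fix hF sq1 ne0 this
    intro a; exact (this ▸ Subgroup.mem_top a : a ∈ (Fx F 2 4 (ev F 4 0)).comap (h'.comp ι1))
  have emb_fix' : ∀ {A : SU 3 F 2} {k : ℕ}, k < 3 →
      act (embSU (N := 4) 0 (by norm_num) U A) (ev F 4 k) = ev F 4 k → act A (ev F 3 k) = ev F 3 k := by
    intro A k hk e
    funext i
    have e' := congrFun e (winEquiv 0 (by norm_num) (Sum.inl i))
    rw [embSU_inl, show (fun j : Fin 3 => ev F 4 k (winEquiv (N := 4) 0 (by norm_num) (Sum.inl j))) = ev F 3 k from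
      funext fun j => by simp [ev, winEquiv]] at e'
    rw [e']
    simp [ev, winEquiv]
  obtain ⟨τ, d, hd, hβd⟩ := U.exists_twist_two hF βh hβi
    (fun a => emb_fix' (by norm_num) (by
      show act (embSU _ _ U (β _)) _ = _
      rw [eβ]; exact g20 a))
    (fun a => emb_fix' (by norm_num) (by
      show act (embSU _ _ U (β _)) _ = _
      rw [eβ]; exact g01 a))
  refine ⟨γ, τ, d, hd, fun a => ?_⟩
  rw [← hβd, show βh a = β a from rfl, eβ, h'e]
  group

/-- Two agreeing copies of `SU 3` in a copy of `SU 4` form the standard amalgam. -/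
theorem exists_window_two {g : SU 4 F 2 →* G} (hg : Function.Injective g) {ψ ψ' : SU 3 F 2 →* G}
    (hψ : Function.Injective ψ) (hψ' : Function.Injective ψ') (hle : ∀ a, ∃ z, g z = ψ a)
    (hle' : ∀ a, ∃ z, g z = ψ' a)
    (hagree : ∀ a : SU 2 F 2, ψ' (embSU 0 (by norm_num) U a) = ψ (embSU 1 (by norm_num) U a))
    (hcomm : ∀ a b : SU 2 F 2, ψ (embSU 0 (by norm_num) U a) * ψ' (embSU 1 (by norm_num) U b) =
      ψ' (embSU 1 (by norm_num) U b) * ψ (embSU 0 (by norm_num) U a)) :
    ∃ f : SU 4 F 2 →* G, (∀ a, f (embSU 0 (by norm_num) U a) = ψ a) ∧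
      ∀ a, f (embSU 1 (by norm_num) U a) = ψ' a := by
  have h2 := U.two_eq_zero hF
  choose k hk using hle
  choose k' hk' using hle'
  let h : SU 3 F 2 →* SU 4 F 2 := MonoidHom.mk' k fun a b => hg (by rw [map_mul, hk, hk, hk, map_mul])
  have hki : Function.Injective h := fun a b e => hψ (by rw [← hk, ← hk]; exact congrArg g e)
  obtain ⟨γ, τ, d, hd, hstd⟩ := U.exists_std_two hF h hki
  let g' : SU 4 F 2 →* G := g.comp (MulAut.conj γ).toMonoidHom
  have g'e : ∀ z, g' z = g (γ * z * γ⁻¹) := fun z => rfl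
  let T := MulEquiv.ofBijective (twist U τ d hd)
    ⟨twist_injective U τ d hd, Finite.surjective_of_injective (twist_injective U τ d hd)⟩
  let D : Fin 4 → F := ![d 0, d 1, d 2, 1]
  have hD : ∀ i, U.nm (D i) = 1 := fun i => by fin_cases i <;> simp [D, hd, U.nm_one]
  let g2 : SU 4 F 2 →* G := g'.comp (twist U τ D hD)
  have hg2 : Function.Injective g2 :=
    (hg.comp (MulAut.conj γ).injective).comp (twist_injective U τ D hD)
  have e0 : ∀ a, g2 (embSU 0 (by norm_num) U a) = ψ a := fun a => by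
    show g' (twist U τ D hD (embSU 0 _ U a)) = ψ a
    rw [U.twist_embSU 0 (by norm_num) τ D hD d hd 1 one_ne_zero (fun i => by fin_cases i <;> simp [D]),
      g'e, ← hstd, ← hk]
    rfl
  have surj : ∀ a, ∃ z, g2 z = ψ' a := fun a => by
    obtain ⟨z, hz⟩ := Finite.surjective_of_injective (twist_injective U τ D hD) (γ⁻¹ * k' a * γ)
    refine ⟨z, ?_⟩
    show g' _ = _
    rw [hz, g'e, ← hk']
    congr 1
    group
  choose k1 hk1 using surj
  let h1 : SU 3 F 2 →* SU 4 F 2 := MonoidHom.mk' k1 fun a b => hg2 (by rw [map_mul, hk1, hk1, hk1, map_mul])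
  have hh1 : ∀ a, g2 (h1 a) = ψ' a := hk1
  have h1i : Function.Injective h1 := fun a b e => hψ' (by rw [← hk1, ← hk1]; exact congrArg g2 e)
  obtain ⟨ω, hω⟩ := U.exists_omega
  have hωn : U.nm ω = 1 := U.nm_ne_zero fun e => by simp [e] at hω
  have hω3 : ω ^ 3 = 1 := by linear_combination (ω - 1) * hω
  have hω1 : ω ≠ 1 := fun e => one_ne_zero (α := F) (by rw [e] at hω; linear_combination hω - h2)
  have hω21 : ω ^ 2 ≠ 1 := fun e => hω1 (by linear_combination ω * e.symm + hω3)
  have hσω : U.σ ω = ω ^ 2 := U.hσ ω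
  have hω2n : U.nm (ω ^ 2) = 1 := by rw [sq, U.nm_mul, hωn, one_mul]
  have hx : U.nm ω + U.nm 0 = 1 := by rw [hωn, U.nm_zero, add_zero]
  have hy : U.nm (0 : F) + U.nm 1 = 1 := by rw [U.nm_zero, U.nm_one, zero_add]
  obtain ⟨⟨r01, -, r1c, -, r1y⟩, ⟨-, -, rC, -⟩, rz⟩ := U.exists_rels hω hx hy h2
  set ι0 : SU 2 F 2 →* SU 3 F 2 := embSU 0 (by norm_num) U
  set ι1 : SU 2 F 2 →* SU 3 F 2 := embSU 1 (by norm_num) U
  set xx := U.su2 ω 0 hx
  set yy := U.su2 0 1 hy
  have hmid : ∀ a, h1 (ι0 a) = embSU (N := 4) 1 (by norm_num) U a := fun a => hg2 (by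
    rw [hh1, hagree, ← e0, embSU_embSU 0 (by norm_num) 1 (by norm_num) (by norm_num) U]
    )
  have hc : ∀ a b : SU 2 F 2, embSU (N := 4) 0 (by norm_num) U a * h1 (ι1 b) =
      h1 (ι1 b) * embSU (N := 4) 0 (by norm_num) U a := fun a b => hg2 (by
    rw [map_mul, map_mul, hh1, show g2 (embSU (N := 4) 0 (by norm_num) U a) = ψ (embSU 0 (by norm_num) U a) from by
      rw [← e0, embSU_embSU 0 (by norm_num) 0 (by norm_num) (by norm_num) U]]
    exact hcomm a b)
  set A := embSU (N := 4) 0 (by norm_num) U xx with hA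
  set B := embSU (N := 4) 0 (by norm_num) U yy with hB
  have A0 : act A (ev F 4 0) = ω • ev F 4 0 := by rw [hA, U.su2_act_ev0]; simp
  have A1 : act A (ev F 4 1) = ω ^ 2 • ev F 4 1 := by
    rw [hA, show ev F 4 1 = ev F 4 (0 + 1) from rfl, U.su2_act_ev1]; simp [hσω]
  have A2 : act A (ev F 4 2) = (1 : F) • ev F 4 2 := by
    rw [one_smul]; exact embSU_mem (N := 4) (m := 2) 0 (by norm_num) U _ 2 (by norm_num) (by omega)
  have A3 : act A (ev F 4 3) = (1 : F) • ev F 4 3 := by
    rw [one_smul]; exact embSU_mem (N := 4) (m := 2) 0 (by norm_num) U _ 3 (by norm_num) (by omega)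
  have B0 : act B (ev F 4 0) = ev F 4 1 := by rw [hB, U.su2_act_ev0]; simp
  have ne : ∀ {r : ℕ}, r < 4 → ev F 4 r ≠ 0 := fun {r} hr e => by simpa [ev] using congrFun e ⟨r, hr⟩
  have hneω : ω ≠ ω ^ 2 := fun e => hω1 (mul_left_cancel₀ (a := ω) (fun e0 => by simp [e0] at hω) (by linear_combination -e))
  -- every element of the second block fixes the first two vectors
  have hl0 : ∀ b, ∃ c : F, act (h1 (ι1 b)) (ev F 4 0) = c • ev F 4 0 := by
    intro b
    have hw : act A (act (h1 (ι1 b)) (ev F 4 0)) = ω • act (h1 (ι1 b)) (ev F 4 0) := by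
      rw [← act_mul, hA, hc, act_mul, ← hA, A0, act_smul]
    exact ⟨_, U.eq_smul_ev (0 : Fin 4) fun j hj => by
      fin_cases j
      · exact absurd rfl hj
      · exact U.eig_perp hw A1 hω2n hneω
      · exact U.eig_perp hw A2 U.nm_one hω1
      · exact U.eig_perp hw A3 U.nm_one hω1⟩
  have sq1 : h1 (ι1 yy) * h1 (ι1 yy) = 1 := by rw [← map_mul, r1y, map_one]
  have fy : act (h1 (ι1 yy)) (ev F 4 0) = ev F 4 0 := by
    obtain ⟨c, hc'⟩ := hl0 yy
    exact U.inv_fix hF sq1 (ne (by norm_num)) hc'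
  have f10 : ∀ b, act (h1 (ι1 b)) (ev F 4 0) = ev F 4 0 := by
    have : (Fx F 2 4 (ev F 4 0)).comap (h1.comp ι1) = ⊤ := by
      refine U.su2_gen hF hω _ (fun _ => ?_) fun _ => fy
      obtain ⟨c, hc'⟩ := hl0 xx
      have e : act (h1 (ι1 xx) * h1 (ι1 yy) * h1 (ι1 xx)) (ev F 4 0) = ev F 4 0 := by
        rw [← map_mul, ← map_mul, rC, fy]
      rw [act_mul, act_mul, hc', act_smul, fy, act_smul, hc', smul_smul] at e
      show act (h1 (ι1 xx)) (ev F 4 0) = ev F 4 0
      rw [hc', U.sq_one hF (c := c) (smul_left_injective F (ne (show 0 < 4 by norm_num)) (by simpa using e)), one_smul]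
    intro b; exact (this ▸ Subgroup.mem_top b : b ∈ (Fx F 2 4 (ev F 4 0)).comap (h1.comp ι1))
  have f11 : ∀ b, act (h1 (ι1 b)) (ev F 4 1) = ev F 4 1 := fun b => by
    rw [← B0, ← act_mul, hB, ← hc, act_mul, f10]
  -- the central element of the second copy
  set M := embSU (N := 4) 1 (by norm_num) U xx with hM
  set W := embSU (N := 4) 1 (by norm_num) U yy with hW
  set K := h1 (ι1 xx) with hK
  have M0 : act M (ev F 4 0) = ev F 4 0 := embSU_mem (N := 4) (m := 2) 1 (by norm_num) U _ 0 (by norm_num) (by omega)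
  have M1 : act M (ev F 4 1) = ω • ev F 4 1 := by rw [hM, U.su2_act_ev0]; simp
  have M2 : act M (ev F 4 2) = ω ^ 2 • ev F 4 2 := by
    rw [hM, show ev F 4 2 = ev F 4 (1 + 1) from rfl, U.su2_act_ev1]; simp [hσω]
  have M3 : act M (ev F 4 3) = (1 : F) • ev F 4 3 := by
    rw [one_smul]; exact embSU_mem (N := 4) (m := 2) 1 (by norm_num) U _ 3 (by norm_num) (by omega)
  have W1 : act W (ev F 4 1) = ev F 4 2 := by rw [hW, U.su2_act_ev0]; simp
  have cMK : M * K = K * M := by rw [hM, ← hmid, hK, ← map_mul, ← map_mul, r01]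
  have K0 : act K (ev F 4 0) = ev F 4 0 := f10 _
  have K1 : act K (ev F 4 1) = ev F 4 1 := f11 _
  have perpK : ∀ {r : ℕ}, r < 4 → r ≠ 0 → r ≠ 1 →
      hf 2 (act K (ev F 4 r)) (ev F 4 0) = 0 ∧ hf 2 (act K (ev F 4 r)) (ev F 4 1) = 0 := by
    intro r hr h0 h1'
    constructor
    · conv_lhs => rw [← K0, hf_act]
      exact U.ev_ne hr (by norm_num) h0
    · conv_lhs => rw [← K1, hf_act]
      exact U.ev_ne hr (by norm_num) h1'
  obtain ⟨a, hKa⟩ : ∃ a : F, act K (ev F 4 2) = a • ev F 4 2 := by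
    have hw : act M (act K (ev F 4 2)) = ω ^ 2 • act K (ev F 4 2) := by
      rw [← act_mul, cMK, act_mul, M2, act_smul]
    exact ⟨_, U.eq_smul_ev (2 : Fin 4) fun j hj => by
      fin_cases j
      · exact (perpK (by norm_num) (by norm_num) (by norm_num)).1
      · exact (perpK (by norm_num) (by norm_num) (by norm_num)).2
      · exact absurd rfl hj
      · exact U.eig_perp hw M3 U.nm_one hω21⟩
  set Q := M * K⁻¹ with hQ
  have Qall : ∀ x, Q * h1 x = h1 x * Q := by
    intro x
    rw [hQ, hM, ← hmid, hK, ← map_inv, ← map_mul, ← map_mul, ← map_mul]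
    refine congrArg h1 (su_ext fun r _ => ?_)
    rw [act_mul, rz, act_mul, rz, act_smul]
  have Q0 : act Q (ev F 4 0) = (1 : F) • ev F 4 0 := by
    rw [hQ, act_mul, act_inv_eq K0, M0, one_smul]
  have Q1 : act Q (ev F 4 1) = ω • ev F 4 1 := by rw [hQ, act_mul, act_inv_eq K1, M1]
  have Q2 : act Q (ev F 4 2) = ω • ev F 4 2 := by
    rw [← W1, ← act_mul, hW, ← hmid, Qall, act_mul, Q1, act_smul]
  have ha : a = ω := by
    have e : act Q (act K (ev F 4 2)) = act M (ev F 4 2) := by rw [← act_mul, hQ, inv_mul_cancel_right]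
    rw [hKa, act_smul, Q2, M2, smul_smul] at e
    have := smul_left_injective F (ne (show 2 < 4 by norm_num)) e
    exact mul_right_cancel₀ (fun e0 => by simp [e0] at hω : ω ≠ 0) (by linear_combination this)
  subst ha
  have K3 : act K (ev F 4 3) = act K (ev F 4 3) 3 • ev F 4 3 := U.eq_smul_ev (3 : Fin 4) fun j hj => by
    fin_cases j
    · exact (perpK (by norm_num) (by norm_num) (by norm_num)).1
    · exact (perpK (by norm_num) (by norm_num) (by norm_num)).2
    · have := hf_act K (ev F 4 3) (ev F 4 2)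
      rw [hKa, U.smul_r, U.ev_ne (show 3 < 4 by norm_num) (by norm_num) (by norm_num)] at this
      exact (mul_eq_zero.1 this).resolve_left ((map_ne_zero U.σ).2 fun e0 => by simp [e0] at hω)
    · exact absurd rfl hj
  have K3' : act K (ev F 4 3) = a ^ 2 • ev F 4 3 := by
    have hdet := U.det_diag (g := K) (c := ![1, 1, a, act K (ev F 4 3) 3]) fun r => by
      fin_cases r
      · simpa using K0
      · simpa using K1
      · simpa using hKa
      · simpa using K3
    simp [Fin.prod_univ_four] at hdet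
    rw [K3, show act K (ev F 4 3) 3 = a ^ 2 by linear_combination a ^ 2 * hdet - act K (ev F 4 3) 3 * hω3]
  have Q3 : act Q (ev F 4 3) = a • ev F 4 3 := by
    have e : act Q (act K (ev F 4 3)) = act M (ev F 4 3) := by rw [← act_mul, hQ, inv_mul_cancel_right]
    rw [K3', act_smul, M3] at e
    calc act Q (ev F 4 3) = a • (a ^ 2 • act Q (ev F 4 3)) := by
          rw [smul_smul, show a * a ^ 2 = 1 by linear_combination hω3, one_smul]
      _ = _ := by rw [e, one_smul]
  have hline : ∀ x, ∃ c : F, act (h1 x) (ev F 4 0) = c • ev F 4 0 := by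
    intro x
    have hw : act Q (act (h1 x) (ev F 4 0)) = (1 : F) • act (h1 x) (ev F 4 0) := by
      rw [← act_mul, Qall, act_mul, Q0, act_smul]
    exact ⟨_, U.eq_smul_ev (0 : Fin 4) fun j hj => by
      fin_cases j
      · exact absurd rfl hj
      · exact U.eig_perp hw Q1 hωn (Ne.symm hω1)
      · exact U.eig_perp hw Q2 hωn (Ne.symm hω1)
      · exact U.eig_perp hw Q3 hωn (Ne.symm hω1)⟩
  have hfix0 : ∀ x, act (h1 x) (ev F 4 0) = ev F 4 0 := U.line_fix hF h1 (ne (by norm_num)) hline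
    (fun b => by
      show act (h1 (ι0 b)) _ = _
      rw [hmid]
      exact embSU_mem (N := 4) (m := 2) 1 (by norm_num) U _ 0 (by norm_num) (by omega))
    f10
  have hb : ∀ x, ∃ b : SU 3 F 2, embSU 1 (by norm_num) U b = h1 x := fun x =>
    mem_range_embSU 1 (by norm_num) U (m := 3) (fun r hr hr' => by
      obtain rfl : r = 0 := by omega
      exact hfix0 x)
  choose β eβ using hb
  have iE : Function.Injective (embSU (F := F) (q := 2) (N := 4) (m := 3) 1 (by norm_num) U) :=
    embSU_injective _ _ U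
  let βh : SU 3 F 2 →* SU 3 F 2 := MonoidHom.mk' β fun x y => iE (by rw [map_mul, eβ, eβ, eβ, map_mul])
  have hβi : Function.Injective βh := fun x y e => h1i (by rw [← eβ, ← eβ]; exact congrArg _ e)
  have emb_fix' : ∀ {X : SU 3 F 2} {r : ℕ}, r < 3 →
      act (embSU (N := 4) 1 (by norm_num) U X) (ev F 4 (1 + r)) = ev F 4 (1 + r) → act X (ev F 3 r) = ev F 3 r := by
    intro X r hr e
    funext i
    have e' := congrFun e (winEquiv 1 (by norm_num) (Sum.inl i))
    rw [embSU_inl, show (fun j : Fin 3 => ev F 4 (1 + r) (winEquiv (N := 4) 1 (by norm_num) (Sum.inl j))) = ev F 3 r from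
      funext fun j => by simp [ev, winEquiv]] at e'
    rw [e']
    simp [ev, winEquiv]
  obtain ⟨τ', d', hd', hβd⟩ := U.exists_twist_two hF βh hβi
    (fun b => emb_fix' (by norm_num) (by
      show act (embSU _ _ U (β _)) _ = _
      rw [eβ, hmid]
      exact embSU_mem (N := 4) (m := 2) 1 (by norm_num) U _ 3 (by norm_num) (by omega)))
    (fun b => emb_fix' (by norm_num) (by
      show act (embSU _ _ U (β _)) _ = _
      rw [eβ]; exact f11 b))
  have hd0 : ∀ i, d' i ≠ 0 := fun i e => by simpa [e, nm] using hd' i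
  have hs : ∀ (p r : F), U.nm p + U.nm r = 1 → τ' p = p ∧ d' 1 / d' 0 * τ' r = r := by
    intro p r hpr
    have e := hmid (U.su2 p r hpr)
    rw [← eβ, show β (ι0 (U.su2 p r hpr)) = twist U τ' d' hd' (ι0 (U.su2 p r hpr)) from hβd _,
      U.twist_embSU 0 (by norm_num) τ' d' hd' ![d' 0, d' 1] (fun i => by fin_cases i <;> simp [hd']) 1 one_ne_zero
        (fun i => by fin_cases i <;> simp),
      embSU_embSU 1 (by norm_num) 0 (by norm_num) (by norm_num) U] at e
    have e' := embSU_injective (N := 4) (m := 2) 1 (by norm_num) U e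
    have hn : ∀ x, U.nm (τ' x) = τ' (U.nm x) := fun x => by simp only [nm, U.hσ, ← map_pow, ← map_mul]
    rw [U.twist_su2 τ' _ _ p r hpr (by simp [U.nm_mul, U.nm_div, hd', hn, ← map_add, hpr])] at e'
    simpa using U.su2_inj e'
  have hτ : τ' = RingEquiv.refl F := by
    refine RingEquiv.ext fun x => ?_
    by_cases h0 : x = 0
    · simp [h0]
    · rcases U.nm_one_cases hω (U.nm_ne_zero h0) with rfl | rfl | rfl <;> simp [(hs _ 0 hx).1]
  subst hτ
  have hr : d' 1 = d' 0 := by
    have := (hs 0 1 hy).2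
    simp at this
    exact (div_eq_one_iff_eq (hd0 0)).1 this
  let E : Fin 4 → F := ![1, 1, 1, d' 2 / d' 0]
  have hE : ∀ i, U.nm (E i) = 1 := fun i => by fin_cases i <;> simp [E, U.nm_one, U.nm_div, hd']
  refine ⟨g2.comp (twist U (RingEquiv.refl F) E hE), fun x => ?_, fun x => ?_⟩
  · rw [MonoidHom.comp_apply, U.twist_embSU 0 (by norm_num) _ E hE (fun _ => 1) (fun _ => U.nm_one) 1 one_ne_zero
      (fun i => by fin_cases i <;> simp [E])]
    rw [show twist U (RingEquiv.refl F) (fun _ : Fin 3 => (1 : F)) (fun _ => U.nm_one) x = x from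
      Subtype.ext (Subtype.ext (Matrix.ext fun i j => by simp [twist_coe]))]
    exact e0 x
  · rw [MonoidHom.comp_apply, U.twist_embSU 1 (by norm_num) _ E hE d' hd' (d' 0)⁻¹ (inv_ne_zero (hd0 0))
      (fun i => by fin_cases i <;> simp [E, hr, hd0] <;> field_simp), ← hβd, show βh x = β x from rfl, eβ]
    exact hh1 x

/-- Two agreeing charts whose outer blocks commute are injective. -/
theorem charts_injective {ψ ψ' : SU 3 F 2 →* G} (hk : ψ.ker ≤ Subgroup.center (SU 3 F 2))
    (hk' : ψ'.ker ≤ Subgroup.center (SU 3 F 2))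
    (hagree : ∀ a : SU 2 F 2, ψ' (embSU 0 (by norm_num) U a) = ψ (embSU 1 (by norm_num) U a))
    (hcomm : ∀ a b : SU 2 F 2, ψ (embSU 0 (by norm_num) U a) * ψ' (embSU 1 (by norm_num) U b) =
      ψ' (embSU 1 (by norm_num) U b) * ψ (embSU 0 (by norm_num) U a)) :
    Function.Injective ψ ∧ Function.Injective ψ' := by
  have h2 := U.two_eq_zero hF
  have main : ∀ (χ χ' : SU 3 F 2 →* G), χ.ker ≤ Subgroup.center (SU 3 F 2) →
      χ'.ker ≤ Subgroup.center (SU 3 F 2) → ∀ (o : ℕ) (ho : o + 2 ≤ 3) (o' : ℕ) (ho' : o' + 2 ≤ 3),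
      (o = 0 ∧ o' = 1 ∨ o = 1 ∧ o' = 0) →
      (∀ a : SU 2 F 2, χ' (embSU o ho U a) = χ (embSU o' ho' U a)) →
      (∀ a b : SU 2 F 2, χ (embSU o ho U a) * χ' (embSU o' ho' U b) =
        χ' (embSU o' ho' U b) * χ (embSU o ho U a)) → Function.Injective χ := by
    intro χ χ' hχ hχ' o ho o' ho' hoo hag hco
    rw [injective_iff_map_eq_one]
    intro z hz
    by_contra hz1
    obtain ⟨ω, hω⟩ := U.exists_omega
    have hωn : U.nm ω = 1 := U.nm_ne_zero fun e => by simp [e] at hω
    have hω3 : ω ^ 3 = 1 := by linear_combination (ω - 1) * hω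
    have hx : U.nm ω + U.nm 0 = 1 := by rw [hωn, U.nm_zero, add_zero]
    have hy : U.nm (0 : F) + U.nm 1 = 1 := by rw [U.nm_zero, U.nm_one, zero_add]
    obtain ⟨⟨r01, r0c, r1c, r0y, r1y⟩, ⟨rA, rB, rC, rD⟩, rz⟩ := U.exists_rels hω hx hy h2
    set Z := embSU (N := 3) 0 (by norm_num) U (U.su2 ω 0 hx) * (embSU 1 (by norm_num) U (U.su2 ω 0 hx))⁻¹
    have hzc : z ∈ Subgroup.center (SU 3 F 2) := hχ (MonoidHom.mem_ker.2 hz)
    have hsc := CfsgLib.Classical.eq_scalar_of_commute (q := 2) (by rw [hF]; norm_num) (by norm_num) _ fun s =>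
      congrArg (fun x : SU 3 F 2 => x.1.1) (Subgroup.mem_center_iff.1 hzc s)
    set c := z.1.1 ⟨0, by norm_num⟩ ⟨0, by norm_num⟩
    have hzv : ∀ v, act z v = c • v := fun v => by
      show z.1.1 *ᵥ v = c • v
      rw [hsc]; funext r; simp [mulVec_diagonal]
    have hc3 : U.nm c = 1 := by
      refine U.nm_ne_zero fun e => ?_
      have := congrArg (fun v => act z⁻¹ v) (hzv (ev F 3 0))
      simp [e, ev] at this
      simpa [ev] using congrFun this ⟨0, by norm_num⟩
    have hzZ : χ Z = 1 := by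
      rcases U.nm_one_cases hω hc3 with e | e | e
      · exact absurd (su_ext fun k _ => by rw [hzv, e, one_smul, act_one]) hz1
      · rw [show Z = z from su_ext fun k _ => by rw [rz, hzv, e]]; exact hz
      · rw [show Z = z * z from su_ext fun k _ => by
          rw [rz, act_mul, hzv, hzv, e, smul_smul, show ω ^ 2 * ω ^ 2 = ω by linear_combination ω * hω3],
          map_mul, hz, mul_one]
    set t := U.su2 ω 0 hx
    set y := U.su2 0 1 hy
    have key : χ (embSU o ho U t) = χ (embSU o' ho' U t) := by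
      rw [map_mul, map_inv, mul_inv_eq_one] at hzZ
      rcases hoo with ⟨rfl, rfl⟩ | ⟨rfl, rfl⟩
      · exact hzZ
      · exact hzZ.symm
    have hcm : χ' (embSU o ho U t * embSU o' ho' U y) = χ' (embSU o' ho' U y * embSU o ho U t) := by
      rw [map_mul, map_mul, hag, ← key, hco]
    have hmem := hχ' (MonoidHom.mem_ker.2 (by
      rw [map_mul, map_inv, hcm, inv_mul_cancel] :
        χ' ((embSU o' ho' U y * embSU o ho U t)⁻¹ * (embSU o ho U t * embSU o' ho' U y)) = 1))
    -- the commutator fixes a basis vector, hence is trivial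
    set P := embSU (N := 3) o ho U t
    set R := embSU (N := 3) o' ho' U y
    have hσω : U.σ ω = ω ^ 2 := U.hσ ω
    have hω1 : ω ≠ 1 := fun e => one_ne_zero (α := F) (by rw [e] at hω; linear_combination hω - h2)
    have ne : ∀ {r : ℕ}, r < 3 → ev F 3 r ≠ 0 := fun {r} hr e => by simpa [ev] using congrFun e ⟨r, hr⟩
    rcases hoo with ⟨rfl, rfl⟩ | ⟨rfl, rfl⟩
    · have P0 : act P (ev F 3 0) = ω • ev F 3 0 := by simp only [P, t]; rw [U.su2_act_ev0]; simp
      have R0 : act R (ev F 3 0) = ev F 3 0 := embSU_mem 1 (by norm_num) U _ 0 (by norm_num) (by omega)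
      have e := U.central_eq_one hmem (i := 0) (by norm_num) (by
        rw [act_mul, act_mul, R0, P0]
        exact act_inv_eq (by rw [act_mul, P0, act_smul, R0]))
      have e' : P * R = R * P := (inv_mul_eq_one.1 e).symm
      have P1 : act P (ev F 3 1) = ω ^ 2 • ev F 3 1 := by
        simp only [P, t]; rw [show ev F 3 1 = ev F 3 (0 + 1) from rfl, U.su2_act_ev1]; simp [hσω]
      have P2 : act P (ev F 3 2) = ev F 3 2 := embSU_mem 0 (by norm_num) U _ 2 (by norm_num) (by omega)
      have R1 : act R (ev F 3 1) = ev F 3 2 := by simp only [R, y]; rw [U.su2_act_ev0]; simp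
      have := congrArg (fun g => act g (ev F 3 1)) e'
      simp only [act_mul, R1, P1, act_smul, P2] at this
      exact hω1 (by
        have h1 : (1 : F) = ω ^ 2 := smul_left_injective F (ne (show 2 < 3 by norm_num)) (by simpa using this)
        linear_combination hω3 + ω * h1)
    · have P2 : act P (ev F 3 2) = ω ^ 2 • ev F 3 2 := by
        simp only [P, t]; rw [show ev F 3 2 = ev F 3 (1 + 1) from rfl, U.su2_act_ev1]; simp [hσω]
      have R2 : act R (ev F 3 2) = ev F 3 2 := embSU_mem 0 (by norm_num) U _ 2 (by norm_num) (by omega)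
      have e := U.central_eq_one hmem (i := 2) (by norm_num) (by
        rw [act_mul, act_mul, R2, P2]
        exact act_inv_eq (by rw [act_mul, P2, act_smul, R2]))
      have e' : P * R = R * P := (inv_mul_eq_one.1 e).symm
      have P0 : act P (ev F 3 0) = ev F 3 0 := embSU_mem 1 (by norm_num) U _ 0 (by norm_num) (by omega)
      have P1 : act P (ev F 3 1) = ω • ev F 3 1 := by simp only [P, t]; rw [U.su2_act_ev0]; simp
      have R0 : act R (ev F 3 0) = ev F 3 1 := by simp only [R, y]; rw [U.su2_act_ev0]; simp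
      have := congrArg (fun g => act g (ev F 3 0)) e'
      simp only [act_mul, R0, P1, P0] at this
      exact hω1 (smul_left_injective F (ne (show 1 < 3 by norm_num)) (by simpa using this))
  refine ⟨main ψ ψ' hk hk' 0 (by norm_num) 1 (by norm_num) (Or.inl ⟨rfl, rfl⟩) hagree fun a b => hcomm a b,
    main ψ' ψ hk' hk 1 (by norm_num) 0 (by norm_num) (Or.inr ⟨rfl, rfl⟩) (fun a => (hagree a).symm)
      fun a b => (hcomm b a).symm⟩

end UF

end CfsgLib.Chev.CT.Phan
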