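/-
Weak Phan systems over the field with four elements.
-/
import Cfsg.Agent.Lib.Chev.CT.Phan.Two.Window
import Cfsg.Agent.Lib.Chev.CT.Phan.Two.Induct
import Cfsg.Agent.Lib.Classical.UnitaryPSU
import Cfsg.Agent.Lib.Chev.CT.Phan.Weak

set_option autoImplicit false

namespace CfsgLib.Chev.CT.Phan

open Matrix Cfsg

universe u v

variable {F : Type u} [Field F] [Fintype F] {G : Type v} [Group G]

/-- A homomorphism of `SU 4` over four elements is injective or trivial. -/
theorem injective_su_four (hF : Fintype.card F = 4) (g : SU 4 F 2 →* G) (hne : ∃ z, g z ≠ 1) :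
    Function.Injective g := by
  have hcard : Fintype.card F = 2 ^ 2 := by rw [hF]; norm_num
  have hs : IsSimpleGroup (PSU 4 F 2) :=
    CfsgLib.Classical.Unitary.isSimpleGroup_PSU hcard (by norm_num) (by norm_num)
  have hc : Subgroup.center (SU 4 F 2) = ⊥ :=
    Subgroup.card_eq_one.1 ((CfsgLib.Classical.card_center_su (n := 4) hcard (by norm_num)).trans (by decide))
  let π := QuotientGroup.mk' (Subgroup.center (SU 4 F 2))
  have hn : (g.ker.map π).Normal := Subgroup.Normal.map inferInstance π (QuotientGroup.mk'_surjective _)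
  rw [injective_iff_map_eq_one]
  intro z hz
  rcases hn.eq_bot_or_eq_top with h | h
  · have : π z ∈ g.ker.map π := Subgroup.mem_map_of_mem π hz
    rw [h, Subgroup.mem_bot] at this
    have := (QuotientGroup.eq_one_iff _).1 this
    rwa [hc, Subgroup.mem_bot] at this
  · exfalso
    obtain ⟨w, hw⟩ := hne
    obtain ⟨k, hk, ek⟩ : π w ∈ g.ker.map π := h ▸ Subgroup.mem_top _
    have hm : k⁻¹ * w ∈ Subgroup.center (SU 4 F 2) := QuotientGroup.eq.1 ek
    rw [hc, Subgroup.mem_bot, inv_mul_eq_one] at hm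
    exact hw (hm ▸ MonoidHom.mem_ker.1 hk)

/-- The completion over four elements, with indices in the natural numbers. -/
theorem weak_phan_two (hF : Fintype.card F = 4) {N : ℕ} (hN : 5 ≤ N)
    (A : ℕ → Subgroup G) (V : ℕ → Subgroup G)
    (hV : ∀ i, i + 3 ≤ N → IsStandardUnitaryPair (V i) (A i) (A (i + 1)) F 2)
    (hW : ∀ i, i + 4 ≤ N → ∃ g : SU 4 F 2 →* G, V i ⊔ V (i + 1) ≤ g.range)
    (hcomm : ∀ i j, i + 2 ≤ j → j + 2 ≤ N → ∀ x ∈ A i, ∀ y ∈ A j, x * y = y * x)
    (hAV : ∀ i l, i + 2 ≤ l → l + 3 ≤ N → ∀ x ∈ A i, ∀ y ∈ V l, x * y = y * x)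
    (hVA : ∀ l j, l + 3 ≤ j → j + 2 ≤ N → ∀ x ∈ V l, ∀ y ∈ A j, x * y = y * x)
    (hVV : ∀ l m, l + 3 ≤ m → m + 3 ≤ N → ∀ x ∈ V l, ∀ y ∈ V m, x * y = y * x) :
    ∃ f : SU N F 2 →* G, (∀ i, i + 2 ≤ N → A i ≤ f.range) ∧ ∀ i, i + 3 ≤ N → V i ≤ f.range := by
  obtain ⟨U⟩ := UF.of_card (F := F) (q := 2) (by rw [hF]; norm_num)
  obtain ⟨c, h1, h2⟩ := exists_charts_of U (U.aut_torus_two hF) A V (N := N) (fun i hi => U.exists_chart (hV i hi))
    (fun i hi => hcomm i (i + 2) le_rfl (by omega)) N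
  have hc : ∀ i, i + 3 ≤ N → IsChart (c i) (A i) (A (i + 1)) (V i) := fun i hi => h1 i (by omega) hi
  have hcV : ∀ i, i + 3 ≤ N → ∀ a, c i a ∈ V i := fun i hi a => (hc i hi).range ▸ ⟨a, rfl⟩
  let φ : ℕ → (SU 2 F 2 →* G) := fun l =>
    if l + 3 ≤ N then (c l).comp (embSU 0 (by norm_num) U) else (c (l - 1)).comp (embSU 1 (by norm_num) U)
  have hφ : ∀ l, l + 2 ≤ N → (φ l).range = A l := by
    intro l hl
    by_cases h : l + 3 ≤ N
    · simp only [φ, if_pos h]; exact (hc l h).range_left U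
    · simp only [φ, if_neg h]
      have := (hc (l - 1) (by omega)).range_right U
      rwa [show l - 1 + 1 = l by omega] at this
  have hφA : ∀ l, l + 2 ≤ N → ∀ a, φ l a ∈ A l := fun l hl a => hφ l hl ▸ ⟨a, rfl⟩
  let D : Dat U N G :=
    { φ := φ
      ψ := c
      h0 := fun l h a => by simp [φ, h]
      h1 := fun l h a => by
        by_cases h4 : l + 1 + 3 ≤ N
        · simp only [φ, if_pos h4, MonoidHom.comp_apply]; exact (h2 l (by omega) (by omega) a).symm
        · simp [φ, h4]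
      hcomm := fun i j hij hj a b => hcomm i j hij hj _ (hφA i (by omega) a) _ (hφA j hj b) }
  have H : D.Two :=
    { card := hF
      AV := fun i l hil hl a b => hAV i l hil hl _ (hφA i (by omega) a) _ (hcV l hl b)
      VA := fun l j hlj hj a b => hVA l j hlj hj _ (hcV l (by omega) a) _ (hφA j hj b)
      VV := fun l m hlm hm a b => hVV l m hlm hm _ (hcV l (by omega) a) _ (hcV m hm b)
      ext := by
        intro l hl
        have hag : ∀ a : SU 2 F 2, c (l + 1) (embSU 0 (by norm_num) U a) = c l (embSU 1 (by norm_num) U a) :=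
          fun a => h2 l (by omega) hl a
        have hcm : ∀ a b : SU 2 F 2, c l (embSU 0 (by norm_num) U a) * c (l + 1) (embSU 1 (by norm_num) U b) =
            c (l + 1) (embSU 1 (by norm_num) U b) * c l (embSU 0 (by norm_num) U a) := fun a b =>
          hcomm l (l + 2) le_rfl (by omega) _ ((hc l (by omega)).range_left U ▸ ⟨a, rfl⟩) _
            ((hc (l + 1) (by omega)).range_right U ▸ ⟨b, rfl⟩)
        obtain ⟨i0, i1⟩ := U.charts_injective hF (hc l (by omega)).ker (hc (l + 1) (by omega)).ker hag hcm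
        obtain ⟨g, hg⟩ := hW l hl
        have le0 : ∀ a, ∃ z, g z = c l a := fun a => hg (Subgroup.mem_sup_left (hcV l (by omega) a))
        have le1 : ∀ a, ∃ z, g z = c (l + 1) a := fun a => hg (Subgroup.mem_sup_right (hcV (l + 1) (by omega) a))
        have hgi : Function.Injective g := by
          refine injective_su_four hF g ?_
          by_contra hne
          push Not at hne
          have hy : U.nm (0 : F) + U.nm 1 = 1 := by rw [U.nm_zero, U.nm_one, zero_add]
          obtain ⟨z, hz⟩ := le0 (embSU 0 (by norm_num) U (U.su2 0 1 hy))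
          rw [hne] at hz
          have := i0 (hz.symm.trans (map_one (c l)).symm)
          have := congrArg (fun x : SU 3 F 2 => act x (ev F 3 0)) this
          simp [U.su2_act_ev0] at this
          simpa [ev] using congrFun this ⟨0, by norm_num⟩
        exact U.exists_window_two hF hgi i0 i1 le0 le1 hag hcm }
  obtain ⟨f, hf, hf'⟩ := D.exists_hom_of_St (H.state_all (N - 2) 0 (by omega))
  refine ⟨f, fun i hi => ?_, fun i hi => ?_⟩
  · rw [← hφ i hi]
    rintro _ ⟨a, rfl⟩
    exact ⟨_, hf i hi a⟩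
  · rw [← (hc i hi).range]
    rintro _ ⟨a, rfl⟩
    exact ⟨_, hf' i hi a⟩

/-- Weak Phan systems over four elements, indexed as in the recognition statement. -/
theorem weak_phan_two_fin (hF : Fintype.card F = 4) {n : ℕ} (hn : 4 ≤ n)
    (U : Fin n → Subgroup G) (V : Fin n → Fin n → Subgroup G)
    (h1 : ∀ i j : Fin n, (i : ℕ) + 2 ≤ j → ∀ x ∈ U i, ∀ y ∈ U j, x * y = y * x)
    (h2 : ∀ i j : Fin n, (i : ℕ) + 1 = j → Cfsg.IsStandardUnitaryPair (V i j) (U i) (U j) F 2)
    (hgen : (⨆ i, U i) ⊔ (⨆ (i : Fin n) (j : Fin n) (_ : (i : ℕ) + 1 = j), V i j) = ⊤)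
    (h4 : ∀ i j k : Fin n, (i : ℕ) + 1 = j → (j : ℕ) + 1 = k →
      ∃ g : ↥(Cfsg.SU 4 F 2) →* ↥(V i j ⊔ V j k), Function.Surjective g)
    (h5 : ∀ i j k : Fin n, (j : ℕ) + 1 = k → ((i : ℕ) + 2 ≤ j ∨ (k : ℕ) + 2 ≤ i) →
      ∀ x ∈ U i, ∀ y ∈ V j k, x * y = y * x)
    (h6 : ∀ i j k l : Fin n, (i : ℕ) + 1 = j → (k : ℕ) + 1 = l → (j : ℕ) + 2 ≤ k →
      ∀ x ∈ V i j, ∀ y ∈ V k l, x * y = y * x) :
    ∃ f : ↥(Cfsg.SU (n + 1) F 2) →* G, Function.Surjective f := by
  let A : ℕ → Subgroup G := fun l => if h : l < n then U ⟨l, h⟩ else ⊥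
  let W : ℕ → Subgroup G := fun l => if h : l + 1 < n then V ⟨l, by omega⟩ ⟨l + 1, h⟩ else ⊥
  obtain ⟨f, hA, hW⟩ := weak_phan_two (G := G) hF (N := n + 1) (by omega) A W
    (fun i hi => by
      simp only [A, W, dif_pos (show i < n by omega), dif_pos (show i + 1 < n by omega)]
      exact h2 _ _ rfl)
    (fun i hi => by
      obtain ⟨g, hg⟩ := h4 ⟨i, by omega⟩ ⟨i + 1, by omega⟩ ⟨i + 1 + 1, by omega⟩ rfl rfl
      refine ⟨(Subgroup.subtype _).comp g, ?_⟩
      simp only [W, dif_pos (show i + 1 < n by omega), dif_pos (show i + 1 + 1 < n by omega)]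
      rw [MonoidHom.range_comp, MonoidHom.range_eq_top.2 hg, ← MonoidHom.range_eq_map, Subgroup.range_subtype])
    (fun i j hij hj => by
      simp only [A, dif_pos (show i < n by omega), dif_pos (show j < n by omega)]
      exact h1 _ _ hij)
    (fun i l hil hl => by
      simp only [A, W, dif_pos (show i < n by omega), dif_pos (show l + 1 < n by omega)]
      exact h5 _ _ _ rfl (Or.inl hil))
    (fun l j hlj hj => by
      simp only [A, W, dif_pos (show j < n by omega), dif_pos (show l + 1 < n by omega)]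
      intro x hx y hy
      exact (h5 _ _ _ rfl (Or.inr (by simp; omega)) y hy x hx).symm)
    (fun l m hlm hm => by
      simp only [W, dif_pos (show l + 1 < n by omega), dif_pos (show m + 1 < n by omega)]
      exact h6 _ _ _ _ rfl rfl (by simp; omega))
  refine ⟨f, MonoidHom.range_eq_top.1 (top_le_iff.1 (hgen.ge.trans (sup_le (iSup_le fun i => ?_)
    (iSup_le fun i => iSup_le fun j => iSup_le fun h => ?_))))⟩
  · have := hA i (by omega)
    simpa [A, i.isLt] using this
  · have hlt : (i : ℕ) + 1 < n := h ▸ j.isLt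
    have := hW i (by omega)
    simp only [W, dif_pos hlt] at this
    have hj : (⟨(i : ℕ) + 1, hlt⟩ : Fin n) = j := Fin.ext h
    rwa [hj] at this

end CfsgLib.Chev.CT.Phan
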